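import Cfsg.Agent.Lib.FFourLocal.Loc.Point

/-!
# The elementary group `E = Z⟨a, b, w⟩`
-/

set_option autoImplicit false
set_option linter.unusedSectionVars false
set_option linter.style.haveILetI false

namespace Cfsg.Agent.FFourLocal

open Subgroup
open Cfsg.Agent.UThreeLocal (cj mem_cj conj_mem_cj card_cj cj_centralizer cj_normalizer Fx mem_Fx Triv
  zpowers_eq_of_prime card_sup_mul_inf shift_mul shift_mul_right)
open scoped commutatorElement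

universe u

variable {G : Type u} [Group G] [Finite G] {Z Q Q1 Q2 L1 L2 : Subgroup G} {t1 t2 g0 x : G}

theorem sq_one_of_order {t : G} (h : orderOf t = 2) : t * t = 1 := by
  rw [← pow_two, ← h, pow_orderOf_eq_one]

theorem eq_one_of_inv_eq {g : G} (h3 : g ^ 3 = 1) (h : g = g⁻¹) : g = 1 := by
  have h2 : g * g = 1 := by
    nth_rw 2 [h]
    exact mul_inv_cancel g
  rwa [pow_succ, pow_two, h2, one_mul] at h3

theorem Ext.comm_surj (h : Ext Z Q) (hx : x ∈ Q) (hxZ : x ∉ Z) {ζ : G} (hζ : ζ ∈ Z) : ∃ q ∈ Q, ⁅q, x⁆ = ζ := by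
  set φ := h.commHom hx with hφ
  have hne : φ.range ≠ ⊥ := fun e => hxZ (h.mem_Z_of_comm hx fun q hq =>
    commutatorElement_eq_one_iff_mul_comm.1 (congrArg Subtype.val
      (mem_bot.1 (e.le ⟨⟨q, hq⟩, rfl⟩ : φ ⟨q, hq⟩ ∈ (⊥ : Subgroup ↥Z)))))
  haveI : Fact (Nat.card ↥Z).Prime := ⟨by rw [h.Z_card]; exact Nat.prime_three⟩
  obtain ⟨q, hq⟩ := ((Subgroup.eq_bot_or_eq_top_of_prime_card φ.range).resolve_left hne).ge (mem_top (⟨_, hζ⟩ : ↥Z))
  exact ⟨q, q.2, congrArg Subtype.val hq⟩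

namespace Frm

variable (F : Frm Z Q Q1 Q2 L1 L2 t1 t2)
include F

theorem t1_C : t1 ∈ centralizer (Z : Set G) := F.base.L1_le F.base.t1_mem

theorem t2_C : t2 ∈ centralizer (Z : Set G) := F.base.L2_le F.base.t2_mem

theorem t12 : t1 * t2 = t2 * t1 := F.base.L_comm _ F.base.t1_mem _ F.base.t2_mem

theorem t1_fix {y : G} (hy : y ∈ Q2) : t1 * y * t1⁻¹ = y := by
  rw [← mem_centralizer_iff.1 (F.base.L1_cent F.base.t1_mem) y hy, mul_inv_cancel_right]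

theorem exists_inv_rep {a : G} (ha : a ∈ Q1) : ∃ ζ ∈ Z, t1 * (a * ζ) * t1⁻¹ = (a * ζ)⁻¹ := by
  set s := t1 * a * t1⁻¹ * a with hs
  have hsZ : s ∈ Z := F.base.t1_inv a ha
  refine ⟨s, hsZ, ?_⟩
  have e1 : t1 * s * t1⁻¹ = s := F.ext.conj_Z F.t1_C hsZ
  calc t1 * (a * s) * t1⁻¹ = (t1 * a * t1⁻¹) * (t1 * s * t1⁻¹) := by group
    _ = s * a⁻¹ * s := by rw [e1, show t1 * a * t1⁻¹ = s * a⁻¹ by rw [hs]; group]
    _ = s * s * a⁻¹ := by
      rw [mul_assoc, ← F.ext.comm_Z (inv_mem (F.base.le1 ha)) hsZ, ← mul_assoc]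
    _ = s⁻¹ * a⁻¹ := by
      rw [show s * s = s ^ 3 * s⁻¹ by rw [pow_succ, pow_two, mul_inv_cancel_right], F.ext.Z_cube hsZ, one_mul]
    _ = (a * s)⁻¹ := (mul_inv_rev _ _).symm

/-- A 3-element of `C(Z)` commutes with `t1` modulo `Q`. -/
theorem comm_t1_mem_Q {u : G} (hu : u ∈ centralizer (Z : Set G)) (h1 : ∀ y, y ∈ Q1 ↔ u * y * u⁻¹ ∈ Q1)
    (h2 : ∀ y, y ∈ Q2 ↔ u * y * u⁻¹ ∈ Q2) : u * t1 * u⁻¹ * t1⁻¹ ∈ Q := by
  have ht : t1 * t1 = 1 := sq_one_of_order F.base.t1_two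
  have hti : t1⁻¹ = t1 := inv_eq_of_mul_eq_one_right ht
  refine F.mem_Q_of_triv (mul_mem (mul_mem (mul_mem hu F.t1_C) (inv_mem hu)) (inv_mem F.t1_C))
    (fun y hy => ?_) fun y hy => ?_
  · set y' := u⁻¹ * y * u with hy'
    have hy'1 : y' ∈ Q1 := (h1 y').2 (by rw [hy', show u * (u⁻¹ * y * u) * u⁻¹ = y by group]; exact hy)
    set z1 := t1 * y * t1⁻¹ * y with hz1
    have hz1Z : z1 ∈ Z := F.base.t1_inv y hy
    set z2 := t1 * y'⁻¹ * t1⁻¹ * y'⁻¹ with hz2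
    have hz2Z : z2 ∈ Z := F.base.t1_inv _ (inv_mem hy'1)
    have e : u * t1 * u⁻¹ * t1⁻¹ * y * (u * t1 * u⁻¹ * t1⁻¹)⁻¹ = z1 * z2 * y := by
      calc u * t1 * u⁻¹ * t1⁻¹ * y * (u * t1 * u⁻¹ * t1⁻¹)⁻¹
          = u * (t1 * (u⁻¹ * (t1⁻¹ * y * t1⁻¹⁻¹) * u) * t1⁻¹) * u⁻¹ := by group
        _ = u * (t1 * (u⁻¹ * (z1 * y⁻¹) * u) * t1⁻¹) * u⁻¹ := by rw [hti, hz1]; group
        _ = u * ((t1 * (u⁻¹ * z1 * u⁻¹⁻¹) * t1⁻¹) * (t1 * y'⁻¹ * t1⁻¹)) * u⁻¹ := by rw [hy']; group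
        _ = u * (z1 * (z2 * y')) * u⁻¹ := by
          rw [F.ext.conj_Z (inv_mem hu) hz1Z, F.ext.conj_Z F.t1_C hz1Z, hz2]; group
        _ = (u * z1 * u⁻¹) * (u * z2 * u⁻¹) * y := by rw [hy']; group
        _ = z1 * z2 * y := by rw [F.ext.conj_Z hu hz1Z, F.ext.conj_Z hu hz2Z]
    rw [e, F.ext.comm_Z (F.base.le1 hy) (mul_mem hz1Z hz2Z), inv_mul_cancel_left]
    exact mul_mem hz1Z hz2Z
  · have hy' : u⁻¹ * y * u ∈ Q2 := (h2 _).2 (by rw [show u * (u⁻¹ * y * u) * u⁻¹ = y by group]; exact hy)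
    have e : u * t1 * u⁻¹ * t1⁻¹ * y * (u * t1 * u⁻¹ * t1⁻¹)⁻¹ = y := by
      calc u * t1 * u⁻¹ * t1⁻¹ * y * (u * t1 * u⁻¹ * t1⁻¹)⁻¹
          = u * (t1 * (u⁻¹ * (t1⁻¹ * y * t1⁻¹⁻¹) * u) * t1⁻¹) * u⁻¹ := by group
        _ = u * (t1 * (u⁻¹ * y * u) * t1⁻¹) * u⁻¹ := by rw [hti, F.t1_fix hy]
        _ = y := by rw [F.t1_fix hy']; group
    rw [e, inv_mul_cancel]
    exact one_mem _

end Frm

/-- A normalised configuration. -/
structure Cfg (Z Q Q1 Q2 : Subgroup G) (t1 t2 g0 x a b w : G) : Prop where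
  pt : Pt Z Q g0 x
  dg : Dg Z Q1 Q2 x a b
  t1_a : t1 * a * t1⁻¹ = a⁻¹
  t2_b : t2 * b * t2⁻¹ = b⁻¹
  wp : w ∈ Wp Z Q g0
  w_not : w ∉ Q
  w_a : a * w = w * a
  w_b : b * w = w * b
  w_t1 : t1 * w = w * t1
  w_t2 : t2 * w = w * t2

theorem Frm.exists_norm_pt (F : Frm Z Q Q1 Q2 L1 L2 t1 t2) (h : Pt Z Q g0 x) :
    ∃ g0' x' a b : G, Pt Z Q g0' x' ∧ Dg Z Q1 Q2 x' a b ∧ t1 * a * t1⁻¹ = a⁻¹ ∧ t2 * b * t2⁻¹ = b⁻¹ := by
  obtain ⟨a, b, d⟩ := h.exists_dg F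
  obtain ⟨ζ, hζ, e1⟩ := F.exists_inv_rep d.ha
  obtain ⟨η, hη, e2⟩ := F.symm.exists_inv_rep d.hb
  obtain ⟨q, hq, hqx⟩ := F.ext.comm_surj h.memQ h.notZ (mul_mem hζ hη)
  have e : a * ζ * (b * η) = q * x * q⁻¹ := by
    have h1 : q * x * q⁻¹ = ζ * η * x := by rw [← hqx, commutatorElement_def]; group
    rw [h1, F.ext.comm_Z h.memQ (mul_mem hζ hη), d.eq, mul_assoc a ζ, ← mul_assoc ζ,
      F.ext.comm_Z (F.base.le2 d.hb) hζ]
    group
  refine ⟨q * g0, a * ζ * (b * η), a * ζ, b * η, ⟨?_, mul_mem (mul_mem (F.base.le1 d.ha) (F.ext.Z_le hζ))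
    (mul_mem (F.base.le2 d.hb) (F.ext.Z_le hη)), ?_⟩, ⟨mul_mem d.ha (F.base.Z1 hζ), ?_, mul_mem d.hb (F.base.Z2 hη),
    ?_, rfl⟩, e1, e2⟩
  · have := mem_cj.1 h.mem
    rw [e, mem_cj]
    simpa [mul_assoc] using this
  · rw [e]
    intro hm
    refine h.notZ ?_
    have h1 := F.ext.conj_Z (inv_mem (F.ext.Q_le hq)) hm
    rw [show q⁻¹ * (q * x * q⁻¹) * q⁻¹⁻¹ = x by group] at h1
    exact h1 ▸ hm
  · exact fun hm => d.haZ ((Subgroup.mul_mem_cancel_right Z hζ).1 hm)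
  · exact fun hm => d.hbZ ((Subgroup.mul_mem_cancel_right Z hη).1 hm)

/-- A point gives a normalised configuration. -/
theorem Frm.exists_cfg (F : Frm Z Q Q1 Q2 L1 L2 t1 t2) (h' : Pt Z Q g0 x) :
    ∃ g0 x a b w : G, Cfg Z Q Q1 Q2 t1 t2 g0 x a b w := by
  obtain ⟨g0, x, a, b, h, d, hta, htb⟩ := F.exists_norm_pt h'
  clear h'
  obtain ⟨u, hu, huQ, -, -⟩ := d.exists_u0 F h
  obtain ⟨k, hk⟩ := h.Wp_pgroup F ⟨u, hu⟩
  obtain ⟨n1, n2⟩ := F.normal_of_three (c := u⁻¹) (k := k) (inv_mem hu.2) (by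
    rw [inv_pow, show u ^ 3 ^ k = 1 by simpa using congrArg Subtype.val hk, inv_one])
  have hq1 := F.comm_t1_mem_Q (inv_mem hu.2) n1 n2
  have hq2 := F.symm.comm_t1_mem_Q (inv_mem hu.2) n2 n1
  rw [inv_inv] at hq1 hq2
  let M : Subgroup G :=
    { carrier := {s | s ∈ centralizer (Z : Set G) ∧ u⁻¹ * (s * u * s⁻¹) ∈ Q}
      one_mem' := ⟨one_mem _, by simp⟩
      mul_mem' := by
        rintro s t ⟨hs, hs1⟩ ⟨ht, ht1⟩
        refine ⟨mul_mem hs ht, ?_⟩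
        rw [show u⁻¹ * (s * t * u * (s * t)⁻¹) =
          (u⁻¹ * (s * u * s⁻¹)) * (s * (u⁻¹ * (t * u * t⁻¹)) * s⁻¹) by group]
        exact mul_mem hs1 (F.ext.conj_mem hs ht1)
      inv_mem' := by
        rintro s ⟨hs, hs1⟩
        refine ⟨inv_mem hs, ?_⟩
        rw [show u⁻¹ * (s⁻¹ * u * s⁻¹⁻¹) = s⁻¹ * (u⁻¹ * (s * u * s⁻¹))⁻¹ * s⁻¹⁻¹ by group]
        exact F.ext.conj_mem (inv_mem hs) (inv_mem hs1) }
  set T := zpowers t1 ⊔ zpowers t2 with hT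
  have hTM : T ≤ M := sup_le (zpowers_le.2 ⟨F.t1_C, by convert hq1 using 1; group⟩)
    (zpowers_le.2 ⟨F.t2_C, by convert hq2 using 1; group⟩)
  have hT4 : Nat.card ↥T ∣ 4 := by
    have h1 := card_sup_mul_inf (A := zpowers t1) (B := zpowers t2) (zpowers_le.2 (normalizes_of_comm fun s hs => by
      obtain ⟨i, rfl⟩ := mem_zpowers_iff.1 hs
      exact ((show Commute t1 t2 from F.t12).zpow_left i).eq))
    rw [Nat.card_zpowers, Nat.card_zpowers, F.base.t1_two, F.base.t2_two] at h1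
    exact ⟨_, h1.symm⟩
  obtain ⟨n, hn, hnC⟩ := Cfsg.Agent.Coprime.exists_fixed_in_coset (A := T) (N := Q) (k := u)
    ((hTM.trans fun s hs => hs.1).trans F.ext.Q_norm)
    (Nat.Coprime.coprime_dvd_left hT4 (by rw [F.ext.Q_card]; norm_num))
    (Or.inr (by
      haveI : Fact (Nat.Prime 3) := ⟨Nat.prime_three⟩
      haveI := F.ext.pgroup.isNilpotent
      exact inferInstance))
    fun s hs => (hTM hs).2
  set w := u * n with hw
  have hwC : w ∈ centralizer (Z : Set G) := mul_mem hu.2 (F.ext.Q_le hn)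
  have hwt1 : t1 * w = w * t1 := mem_centralizer_iff.1 hnC t1 (mem_sup_left (mem_zpowers t1))
  have hwt2 : t2 * w = w * t2 := mem_centralizer_iff.1 hnC t2 (mem_sup_right (mem_zpowers t2))
  have fixw : ∀ {e t : G}, e ∈ Q → t ∈ centralizer (Z : Set G) → t * w = w * t → e⁻¹ * (u * e * u⁻¹) ∈ Z →
      t * e * t⁻¹ = e⁻¹ → e * w = w * e := by
    intro e t he htC htw hfix hte
    set ζ := e⁻¹ * (w * e * w⁻¹) with hζ
    have hζZ : ζ ∈ Z := by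
      rw [hζ, hw, shift_mul, F.ext.conj_Z hu.2 (F.triv_Q hn le_rfl e he)]
      exact mul_mem hfix (F.triv_Q hn le_rfl e he)
    have e1 : w * e * w⁻¹ = e * ζ := by rw [hζ]; group
    have e2 : t * (w * e * w⁻¹) * t⁻¹ = e⁻¹ * ζ := by
      rw [e1, show t * (e * ζ) * t⁻¹ = (t * e * t⁻¹) * (t * ζ * t⁻¹) by group, hte, F.ext.conj_Z htC hζZ]
    have e3 : t * (w * e * w⁻¹) * t⁻¹ = w * e⁻¹ * w⁻¹ := by
      rw [show t * (w * e * w⁻¹) * t⁻¹ = (t * w) * e * (t * w)⁻¹ by group, htw,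
        show w * t * e * (w * t)⁻¹ = w * (t * e * t⁻¹) * w⁻¹ by group, hte]
    have e4 : e⁻¹ * ζ = e⁻¹ * ζ⁻¹ := by
      rw [← e2, e3, show w * e⁻¹ * w⁻¹ = (w * e * w⁻¹)⁻¹ by group, e1, mul_inv_rev,
        F.ext.comm_Z (inv_mem he) (inv_mem hζZ)]
    rw [eq_one_of_inv_eq (F.ext.Z_cube hζZ) (mul_left_cancel e4), mul_one] at e1
    exact (mul_inv_eq_iff_eq_mul.1 e1).symm
  have haQ := F.base.le1 d.ha
  have hbQ := F.base.le2 d.hb
  have hwa : a * w = w * a := fixw haQ F.t1_C hwt1 (d.fix1 F h hu) hta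
  have hwb : b * w = w * b := fixw hbQ F.t2_C hwt2 ((d.symm F).fix1 F.symm h hu) htb
  have hwx : w * x = x * w := by rw [d.eq, ← mul_assoc, ← hwa, mul_assoc, ← hwb, mul_assoc]
  -- `n` commutes with `x`
  have hnx : n * x = x * n := by
    have h1 : n * x * n⁻¹ = u⁻¹ * (w * x * w⁻¹) * u := by rw [hw]; group
    rw [hwx, mul_inv_cancel_right, mul_assoc u⁻¹, ← h.Wp_comm_x F hu, inv_mul_cancel_left] at h1
    exact mul_inv_eq_iff_eq_mul.1 h1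
  set D := Q ⊓ cj g0 Q with hD
  have hDQ : D ≤ Q := inf_le_left
  have haD : a ∉ D := fun e => d.haZ (d.D_Q1 F h e d.ha)
  have hWeq : D ⊔ zpowers a = Fx Q x := by
    refine Subgroup.eq_of_le_of_card_ge (sup_le (fun y hy => mem_inf.2 ⟨hDQ hy, mem_centralizer_singleton_iff.2
      (h.D_comm F y hy x (h.x_mem_D F))⟩) (zpowers_le.2 (mem_inf.2 ⟨haQ, mem_centralizer_singleton_iff.2 ?_⟩))) ?_
    · rw [d.eq, mul_assoc a b a, ← F.base.Q_comm a d.ha b d.hb]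
    · rw [card_step (F.Q_le_norm hDQ (h.Z_le_D F) haQ) (F.base.cube a haQ) haD, d.card_D F h,
        show Nat.card ↥(Fx Q x) = 81 from F.ext.card_Fx h.memQ h.notZ]
  obtain ⟨v, hv, i, hvi⟩ := mem_sup_zpowers (F.Q_le_norm hDQ (h.Z_le_D F) haQ)
    (hWeq.ge (mem_inf.2 ⟨hn, mem_centralizer_singleton_iff.2 hnx⟩))
  set w' := u * v with hw'
  have hw'P : w' ∈ Wp Z Q g0 := mul_mem hu (h.D_le_Wp F hv)
  have ew : w = w' * a ^ i := by rw [hw, hvi, hw']; group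
  set t := t1 * t2 with ht
  have htC : t ∈ centralizer (Z : Set G) := mul_mem F.t1_C F.t2_C
  have hta0 : t * a * t⁻¹ = a⁻¹ := by
    rw [ht, show t1 * t2 * a * (t1 * t2)⁻¹ = t1 * (t2 * a * t2⁻¹) * t1⁻¹ by group, F.symm.t1_fix d.ha, hta]
  have htb0 : t * b * t⁻¹ = b⁻¹ := by
    rw [ht, show t1 * t2 * b * (t1 * t2)⁻¹ = t1 * (t2 * b * t2⁻¹) * t1⁻¹ by group, htb,
      F.t1_fix (inv_mem d.hb)]
  have htw : t * w = w * t := by rw [ht, mul_assoc, hwt2, ← mul_assoc, hwt1, mul_assoc]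
  have htx : t * x * t⁻¹ = x⁻¹ := by
    rw [d.eq, show t * (a * b) * t⁻¹ = (t * a * t⁻¹) * (t * b * t⁻¹) by group, hta0, htb0, ← mul_inv_rev,
      ← F.base.Q_comm a d.ha b d.hb]
  have htN : t ∈ normalizer ((cj g0 Q : Subgroup G) : Set G) := by
    refine (h.ext' F).norm ?_
    rw [← h.zp F]
    refine Subgroup.mem_normalizer_fintype fun y hy => ?_
    obtain ⟨j, rfl⟩ := mem_zpowers_iff.1 hy
    rw [SetLike.mem_coe, ← conj_zpow, htx]
    exact zpow_mem (inv_mem (mem_zpowers x)) j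
  have h2i : a ^ (2 * i) ∈ Q ⊓ cj g0 Q := by
    refine mem_inf.2 ⟨zpow_mem haQ _, ?_⟩
    have e : a ^ (2 * i) = w'⁻¹ * (t * w' * t⁻¹) := by
      have h1 : t * w * t⁻¹ = w := by rw [htw, mul_inv_cancel_right]
      rw [ew, show t * (w' * a ^ i) * t⁻¹ = (t * w' * t⁻¹) * (t * a ^ i * t⁻¹) by group, ← conj_zpow, hta0] at h1
      rw [show t * w' * t⁻¹ = w' * a ^ i * ((a⁻¹) ^ i)⁻¹ by rw [← h1]; group]
      group
    rw [e]
    exact mul_mem (inv_mem (mem_inf.1 hw'P).1) ((mem_normalizer_iff.1 htN _).1 (mem_inf.1 hw'P).1)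
  have h2Z := zpow_eq_one_of_mem (F.base.cube a haQ) d.haZ (d.D_Q1 F h h2i (zpow_mem d.ha _))
  have hai : a ^ i = 1 := by
    have h3 := F.base.cube a haQ
    rw [show i = 2 * i * 2 + -((3 : ℕ) : ℤ) * i by omega, zpow_add, zpow_mul, h2Z, one_zpow, one_mul, zpow_mul,
      zpow_neg, zpow_natCast, h3, inv_one, one_zpow]
  rw [hai, mul_one] at ew
  exact ⟨g0, x, a, b, w, h, d, hta, htb, ew ▸ hw'P,
    fun e => huQ (by have := mul_mem e (inv_mem hn); rwa [hw, mul_inv_cancel_right] at this), hwa, hwb, hwt1, hwt2⟩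

namespace Cfg

variable {a b w : G} (F : Frm Z Q Q1 Q2 L1 L2 t1 t2) (c : Cfg Z Q Q1 Q2 t1 t2 g0 x a b w)
include F c

theorem a_Q : a ∈ Q := F.base.le1 c.dg.ha

theorem b_Q : b ∈ Q := F.base.le2 c.dg.hb

theorem w_C : w ∈ centralizer (Z : Set G) := (mem_inf.1 c.wp).2

theorem w_cube : w ^ 3 = 1 := (c.pt.ext' F).cube w (mem_inf.1 c.wp).1

theorem w_x : w * x = x * w := c.pt.Wp_comm_x F c.wp

theorem ab : a * b = b * a := F.base.Q_comm a c.dg.ha b c.dg.hb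

/-- The four generators commute. -/
theorem comm_A : ∀ p ∈ Z ⊔ zpowers a ⊔ zpowers b, ∀ q ∈ Z ⊔ zpowers a ⊔ zpowers b, p * q = q * p :=
  comm_step (comm_step (fun _ hp _ hq => (F.ext.comm_Z (F.ext.Z_le hp) hq).symm)
    fun _ hz => F.ext.comm_Z (c.a_Q F) hz) fun _ hp =>
    mem_centralizer_singleton_iff.1 ((sup_le (fun _ hz => mem_centralizer_singleton_iff.2 (F.ext.comm_Z (c.b_Q F) hz))
      (zpowers_le.2 (mem_centralizer_singleton_iff.2 (c.ab F))) : Z ⊔ zpowers a ≤ centralizer ({b} : Set G)) hp)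

theorem A_le : Z ⊔ zpowers a ⊔ zpowers b ≤ Q :=
  sup_le (sup_le F.ext.Z_le (zpowers_le.2 (c.a_Q F))) (zpowers_le.2 (c.b_Q F))

theorem card_A : Nat.card ↥(Z ⊔ zpowers a ⊔ zpowers b) = 27 := by
  rw [card_step (F.Q_le_norm (sup_le F.ext.Z_le (zpowers_le.2 (c.a_Q F))) le_sup_left (c.b_Q F))
    (F.base.cube b (c.b_Q F))
    (fun e => c.dg.hbZ (F.inf_eq.le ⟨sup_le F.base.Z1 (zpowers_le.2 c.dg.ha) e, c.dg.hb⟩)),
    card_step (normalizes_of_comm fun _ hz => F.ext.comm_Z (c.a_Q F) hz) (F.base.cube a (c.a_Q F)) c.dg.haZ,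
    F.ext.Z_card]

theorem comm_w : ∀ p ∈ Z ⊔ zpowers a ⊔ zpowers b, p * w = w * p := fun _ hp =>
  mem_centralizer_singleton_iff.1 ((sup_le (sup_le
    (fun z hz => mem_centralizer_singleton_iff.2 (mem_centralizer_iff.1 (c.w_C F) z hz))
    (zpowers_le.2 (mem_centralizer_singleton_iff.2 c.w_a))) (zpowers_le.2 (mem_centralizer_singleton_iff.2 c.w_b)) :
      Z ⊔ zpowers a ⊔ zpowers b ≤ centralizer ({w} : Set G)) hp)

theorem E_comm : ∀ p ∈ Z ⊔ zpowers a ⊔ zpowers b ⊔ zpowers w, ∀ q ∈ Z ⊔ zpowers a ⊔ zpowers b ⊔ zpowers w,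
    p * q = q * p := comm_step (c.comm_A F) (c.comm_w F)

theorem E_exp : ∀ p ∈ Z ⊔ zpowers a ⊔ zpowers b ⊔ zpowers w, p ^ 3 = 1 :=
  exp_step (fun p hp => F.base.cube p (c.A_le F hp)) (c.w_cube F) (c.comm_w F)

theorem card_E : Nat.card ↥(Z ⊔ zpowers a ⊔ zpowers b ⊔ zpowers w) = 81 := by
  rw [card_step (normalizes_of_comm (c.comm_w F)) (c.w_cube F) (fun e => c.w_not (c.A_le F e)), c.card_A F]

theorem E_le_C : Z ⊔ zpowers a ⊔ zpowers b ⊔ zpowers w ≤ centralizer (Z : Set G) :=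
  sup_le ((c.A_le F).trans F.ext.Q_le) (zpowers_le.2 (c.w_C F))

theorem E_inf_Q : (Z ⊔ zpowers a ⊔ zpowers b ⊔ zpowers w) ⊓ Q = Z ⊔ zpowers a ⊔ zpowers b :=
  (Subgroup.eq_of_le_of_card_ge (le_inf le_sup_left (c.A_le F)) (by
    rw [c.card_A F]
    exact F.ext.abelian_le inf_le_right fun p hp q hq => c.E_comm F p (mem_inf.1 hp).1 q (mem_inf.1 hq).1)).symm

theorem B_le : Z ⊔ zpowers x ⊔ zpowers w ≤ (Z ⊔ zpowers a ⊔ zpowers b ⊔ zpowers w) ⊓ cj g0 Q := by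
  refine le_inf (sup_le (sup_le (le_sup_left.trans (le_sup_left.trans le_sup_left)) (zpowers_le.2 ?_)) le_sup_right)
    (sup_le (sup_le (c.pt.Z_le' F) (zpowers_le.2 ((c.pt.ext' F).Z_le c.pt.mem))) (zpowers_le.2 (mem_inf.1 c.wp).1))
  rw [c.dg.eq]
  exact mem_sup_left (mul_mem (mem_sup_left (mem_sup_right (mem_zpowers a))) (mem_sup_right (mem_zpowers b)))

theorem E_inf_Q' : (Z ⊔ zpowers a ⊔ zpowers b ⊔ zpowers w) ⊓ cj g0 Q = Z ⊔ zpowers x ⊔ zpowers w :=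
  (Subgroup.eq_of_le_of_card_ge (c.B_le F) (by
    have hC : ∀ p ∈ Z ⊔ zpowers x, p * w = w * p := fun p hp =>
      c.E_comm F p ((c.B_le F (mem_sup_left hp)).1) w (mem_sup_right (mem_zpowers w))
    rw [card_step (normalizes_of_comm hC) (c.w_cube F)
      (fun e => c.w_not (sup_le F.ext.Z_le (zpowers_le.2 c.pt.memQ) e)), c.pt.card_span F]
    exact (c.pt.ext' F).abelian_le inf_le_right fun p hp q hq =>
      c.E_comm F p (mem_inf.1 hp).1 q (mem_inf.1 hq).1)).symm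

theorem Q_norm_E : Q ≤ normalizer ((Z ⊔ zpowers a ⊔ zpowers b ⊔ zpowers w : Subgroup G) : Set G) := by
  intro q hq
  set A := Z ⊔ zpowers a ⊔ zpowers b with hA
  have hZA : Z ≤ A := le_sup_left.trans le_sup_left
  have hA' : ∀ p ∈ A, q * p * q⁻¹ ∈ A := fun p hp =>
    (mem_normalizer_iff.1 (F.Q_le_norm (c.A_le F) hZA hq) p).1 hp
  have hw : q * w * q⁻¹ * w⁻¹ ∈ A := by
    refine F.ext.cent_abelian (c.A_le F) (c.comm_A F) (c.card_A F) ?_ fun p hp => ?_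
    · rw [show q * w * q⁻¹ * w⁻¹ = q * (w * q⁻¹ * w⁻¹) by group]
      exact mul_mem hq (F.ext.conj_mem (c.w_C F) (inv_mem hq))
    · have hp' : q⁻¹ * p * q ∈ A := by
        have := (mem_normalizer_iff.1 (F.Q_le_norm (c.A_le F) hZA (inv_mem hq)) p).1 hp
        rwa [inv_inv] at this
      have e1 : p * (q * w * q⁻¹) = q * w * q⁻¹ * p := by
        calc p * (q * w * q⁻¹) = q * ((q⁻¹ * p * q) * w) * q⁻¹ := by group
          _ = q * (w * (q⁻¹ * p * q)) * q⁻¹ := by rw [c.comm_w F _ hp']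
          _ = q * w * q⁻¹ * p := by group
      exact (show Commute p (q * w * q⁻¹ * w⁻¹) from
        (show Commute p (q * w * q⁻¹) from e1).mul_right (show Commute p w from c.comm_w F p hp).inv_right).eq
  refine Subgroup.mem_normalizer_fintype fun p hp => ?_
  rw [SetLike.mem_coe] at hp ⊢
  obtain ⟨p1, hp1, n, rfl⟩ := mem_sup_zpowers (normalizes_of_comm (c.comm_w F)) hp
  rw [show q * (p1 * w ^ n) * q⁻¹ = (q * p1 * q⁻¹) * (q * w ^ n * q⁻¹) by group, ← conj_zpow]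
  refine mul_mem (mem_sup_left (hA' p1 hp1)) (zpow_mem ?_ n)
  rw [show q * w * q⁻¹ = (q * w * q⁻¹ * w⁻¹) * w by group]
  exact mul_mem (mem_sup_left hw) (mem_sup_right (mem_zpowers w))

/-- An element of `D` moving `a`. -/
theorem exists_d' : ∃ d ∈ Q ⊓ cj g0 Q, d * a ≠ a * d := by
  obtain ⟨a', ha', b', hb', hne, hd⟩ := c.dg.exists_d F c.pt
  refine ⟨a' * b', hd, fun e => hne ?_⟩
  rw [mul_assoc, ← F.base.Q_comm a c.dg.ha b' hb', ← mul_assoc, ← mul_assoc] at e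
  exact (mul_right_cancel e).symm

theorem D_eq {d : G} (hd : d ∈ Q ⊓ cj g0 Q) (hda : d * a ≠ a * d) :
    Q ⊓ cj g0 Q = Z ⊔ zpowers x ⊔ zpowers d := by
  have hxQ := c.pt.memQ
  refine (Subgroup.eq_of_le_of_card_ge (sup_le (sup_le (c.pt.Z_le_D F) (zpowers_le.2 (c.pt.x_mem_D F)))
    (zpowers_le.2 hd)) ?_).symm
  rw [c.dg.card_D F c.pt, card_step (F.Q_le_norm (sup_le F.ext.Z_le (zpowers_le.2 hxQ)) le_sup_left (mem_inf.1 hd).1)
    (F.base.cube d (mem_inf.1 hd).1) (fun e => hda ?_), c.pt.card_span F]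
  have hle : Z ⊔ zpowers x ≤ Z ⊔ zpowers a ⊔ zpowers b := sup_le (le_sup_left.trans le_sup_left) (zpowers_le.2 (by
    rw [c.dg.eq]; exact mul_mem (mem_sup_left (mem_sup_right (mem_zpowers a))) (mem_sup_right (mem_zpowers b))))
  exact c.comm_A F d (hle e) a (mem_sup_left (mem_sup_right (mem_zpowers a)))

theorem w_not_comm {d : G} (hd : d ∈ Q ⊓ cj g0 Q) (hda : d * a ≠ a * d) : d * w ≠ w * d := by
  intro e
  set D := Q ⊓ cj g0 Q with hD
  have hDw : ∀ p ∈ D, p * w = w * p := fun p hp => by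
    rw [hD, c.D_eq F hd hda] at hp
    exact mem_centralizer_singleton_iff.1 ((sup_le (sup_le
      (fun z hz => mem_centralizer_singleton_iff.2 (mem_centralizer_iff.1 (c.w_C F) z hz))
      (zpowers_le.2 (mem_centralizer_singleton_iff.2 (c.w_x F).symm)))
      (zpowers_le.2 (mem_centralizer_singleton_iff.2 e)) : Z ⊔ zpowers x ⊔ zpowers d ≤ centralizer ({w} : Set G)) hp)
  have h1 := (c.pt.ext' F).abelian_le (A := D ⊔ zpowers w)
    (sup_le inf_le_right (zpowers_le.2 (mem_inf.1 c.wp).1)) (comm_step (c.pt.D_comm F) hDw)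
  rw [card_step (normalizes_of_comm hDw) (c.w_cube F) (fun e => c.w_not (mem_inf.1 e).1), c.dg.card_D F c.pt] at h1
  omega

/-- The centralizer in `E` of an element of `D` moving `a`. -/
theorem cent_d {d : G} (hd : d ∈ Q ⊓ cj g0 Q) (hda : d * a ≠ a * d) {e : G}
    (he : e ∈ Z ⊔ zpowers a ⊔ zpowers b ⊔ zpowers w) (hed : e * d = d * e) : e ∈ Z ⊔ zpowers x := by
  obtain ⟨p, hp, n, rfl⟩ := mem_sup_zpowers (normalizes_of_comm (c.comm_w F)) he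
  have hpQ := c.A_le F hp
  obtain ⟨hdQ, hdQ'⟩ := mem_inf.1 hd
  have hwn : w ^ n ∈ cj g0 Q := zpow_mem (mem_inf.1 c.wp).1 n
  have hz1 := F.ext.comm_mem hdQ hpQ
  have hz2 := (c.pt.ext' F).comm_mem hdQ' hwn
  have e0 : ⁅d, p⁆ * (p * ⁅d, w ^ n⁆ * p⁻¹) = 1 := by
    have : ⁅d, p * w ^ n⁆ = 1 := commutatorElement_eq_one_iff_mul_comm.2 hed.symm
    rw [← this]; simp only [commutatorElement_def]; group
  have hpx : p * x = x * p := c.comm_A F p hp x (by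
    rw [c.dg.eq]; exact mul_mem (mem_sup_left (mem_sup_right (mem_zpowers a))) (mem_sup_right (mem_zpowers b)))
  rw [(c.pt.ext' F).conj_Z (c.pt.mem_cent' F hpx) hz2] at e0
  have h2 : ⁅d, w ^ n⁆ = 1 := c.pt.inter_bot F (by
    rw [eq_inv_of_mul_eq_one_right e0]; exact inv_mem hz1) hz2
  rw [h2, mul_one] at e0
  have hn0 : w ^ n = 1 := by
    have hw3 := c.w_cube F
    rw [zpow_mod_three hw3 n] at h2 ⊢
    rcases (by omega : n % 3 = 0 ∨ n % 3 = 1 ∨ n % 3 = 2) with k | k | k <;> rw [k] at h2 ⊢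
    · exact zpow_zero w
    · rw [zpow_one] at h2
      exact absurd (commutatorElement_eq_one_iff_mul_comm.1 h2) (c.w_not_comm F hd hda)
    · refine absurd ?_ (c.w_not_comm F hd hda)
      have h3 := ((show Commute d (w ^ (2 : ℤ)) from commutatorElement_eq_one_iff_mul_comm.1 h2).zpow_right 2).eq
      rwa [← zpow_mul, zpow_mod_three hw3, show (2 : ℤ) * 2 % 3 = 1 from rfl, zpow_one] at h3
  rw [hn0, mul_one]
  have hA2 : Z ⊔ zpowers x ⊔ zpowers a = Z ⊔ zpowers a ⊔ zpowers b := by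
    refine le_antisymm (sup_le (sup_le (le_sup_left.trans le_sup_left) (zpowers_le.2 (by
      rw [c.dg.eq]; exact mul_mem (mem_sup_left (mem_sup_right (mem_zpowers a))) (mem_sup_right (mem_zpowers b)))))
      ((le_sup_right : zpowers a ≤ Z ⊔ zpowers a).trans le_sup_left))
      (sup_le (sup_le (le_sup_left.trans le_sup_left) le_sup_right) (zpowers_le.2 ?_))
    rw [show b = a⁻¹ * x by rw [c.dg.eq, inv_mul_cancel_left]]
    exact mul_mem (inv_mem (mem_sup_right (mem_zpowers a))) (mem_sup_left (mem_sup_right (mem_zpowers x)))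
  rw [← hA2] at hp
  obtain ⟨q, hq, m, rfl⟩ := mem_sup_zpowers (normalizes_of_comm fun r hr => c.comm_A F r
    (hA2.le (mem_sup_left hr)) a (mem_sup_left (mem_sup_right (mem_zpowers a)))) hp
  have hqD : q ∈ Q ⊓ cj g0 Q := sup_le (c.pt.Z_le_D F) (zpowers_le.2 (c.pt.x_mem_D F)) hq
  have hdq : Commute d q := c.pt.D_comm F d hd q hqD
  have hdam : Commute d (a ^ m) := by
    have h3 : Commute d (q * a ^ m) := commutatorElement_eq_one_iff_mul_comm.1 e0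
    simpa using hdq.inv_right.mul_right h3
  have ha3 := F.base.cube a (c.a_Q F)
  have hm0 : a ^ m = 1 := by
    rw [zpow_mod_three ha3 m] at hdam ⊢
    rcases (by omega : m % 3 = 0 ∨ m % 3 = 1 ∨ m % 3 = 2) with k | k | k <;> rw [k] at hdam ⊢
    · exact zpow_zero a
    · rw [zpow_one] at hdam; exact absurd hdam.eq hda
    · refine absurd ?_ hda
      have h3 := (hdam.zpow_right 2).eq
      rwa [← zpow_mul, zpow_mod_three ha3, show (2 : ℤ) * 2 % 3 = 1 from rfl, zpow_one] at h3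
  rw [hm0, mul_one]
  exact hq

end Cfg

end Cfsg.Agent.FFourLocal
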