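import Cfsg.Agent.Lib.FFourLocal.Interface
import Cfsg.Agent.Lib.UThreeLocal.Loc.Elem

/-!
# The extraspecial group of order `3⁵` inside the centraliser, without weak closure
-/

set_option autoImplicit false
set_option linter.unusedSectionVars false
set_option linter.style.haveILetI false

namespace Cfsg.Agent.FFourLocal

open Subgroup
open Cfsg.Agent.UThreeLocal (cj mem_cj conj_mem_cj card_cj cj_centralizer cj_normalizer Fx mem_Fx Triv
  zpowers_eq_of_prime card_sup_mul_inf)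
open scoped commutatorElement

universe u

variable {G : Type u} [Group G]

theorem zpow_eq_one_of_mem [Finite G] {X : Subgroup G} {g : G} (h3 : g ^ 3 = 1) (hg : g ∉ X) {n : ℤ}
    (hn : g ^ n ∈ X) : g ^ n = 1 := by
  have e : g ^ n = g ^ (n % 3) := by
    conv_lhs => rw [← Int.mul_ediv_add_emod n 3]
    rw [zpow_add, zpow_mul, show (3 : ℤ) = ((3 : ℕ) : ℤ) from rfl, zpow_natCast, h3, one_zpow, one_mul]
  rw [e] at hn ⊢
  rcases (by omega : n % 3 = 0 ∨ n % 3 = 1 ∨ n % 3 = 2) with h | h | h <;> rw [h] at hn ⊢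
  · exact zpow_zero g
  · exact absurd (by simpa using hn) hg
  · refine absurd ?_ hg
    have := inv_mem hn
    rw [← zpow_neg] at this
    rw [show g = g ^ (-2 : ℤ) * g ^ 3 by group, h3, mul_one]
    exact this

theorem normalizes_of_comm [Finite G] {X : Subgroup G} {g : G} (hc : ∀ x ∈ X, x * g = g * x) :
    g ∈ normalizer (X : Set G) :=
  mem_normalizer_fintype fun x hx => by
    rw [SetLike.mem_coe, ← hc x hx, mul_inv_cancel_right]
    exact hx

theorem mem_sup_zpowers {X : Subgroup G} {g x : G} (hg : g ∈ normalizer (X : Set G)) (hx : x ∈ X ⊔ zpowers g) :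
    ∃ e ∈ X, ∃ n : ℤ, x = e * g ^ n := by
  rw [← SetLike.mem_coe, coe_mul_of_right_le_normalizer_left _ _ (zpowers_le.2 hg)] at hx
  obtain ⟨e, he, _, ⟨n, rfl⟩, rfl⟩ := hx
  exact ⟨e, he, n, rfl⟩

theorem card_step [Finite G] {X : Subgroup G} {g : G} (hn : g ∈ normalizer (X : Set G)) (h3 : g ^ 3 = 1)
    (hg : g ∉ X) : Nat.card ↥(X ⊔ zpowers g) = Nat.card ↥X * 3 := by
  haveI : Fact (Nat.Prime 3) := ⟨Nat.prime_three⟩
  have hi : X ⊓ zpowers g = ⊥ := by
    refine eq_bot_iff.2 fun x hx => ?_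
    obtain ⟨n, rfl⟩ := mem_zpowers_iff.1 (mem_inf.1 hx).2
    exact mem_bot.2 (zpow_eq_one_of_mem h3 hg (mem_inf.1 hx).1)
  have h := card_sup_mul_inf (A := X) (B := zpowers g) (zpowers_le.2 hn)
  rw [hi, card_bot, mul_one, Nat.card_zpowers, orderOf_eq_prime h3 fun e => hg (e ▸ one_mem X)] at h
  exact h

theorem comm_step {X : Subgroup G} {g : G} (hX : ∀ x ∈ X, ∀ y ∈ X, x * y = y * x)
    (hc : ∀ x ∈ X, x * g = g * x) : ∀ x ∈ X ⊔ zpowers g, ∀ y ∈ X ⊔ zpowers g, x * y = y * x := by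
  have h1 : ∀ y ∈ X ⊔ zpowers g, y * g = g * y := fun y hy =>
    mem_centralizer_singleton_iff.1 ((sup_le (fun x hx => mem_centralizer_singleton_iff.2 (hc x hx))
      (zpowers_le.2 (mem_centralizer_singleton_iff.2 rfl)) : X ⊔ zpowers g ≤ centralizer ({g} : Set G)) hy)
  intro x hx y hy
  have hle : X ⊔ zpowers g ≤ centralizer ({y} : Set G) := sup_le (fun u hu => by
    rw [mem_centralizer_singleton_iff]
    exact (mem_centralizer_singleton_iff.1 ((sup_le (fun v hv => mem_centralizer_singleton_iff.2 (hX v hv u hu))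
      (zpowers_le.2 (mem_centralizer_singleton_iff.2 (hc u hu).symm)) :
        X ⊔ zpowers g ≤ centralizer ({u} : Set G)) hy)).symm)
    (zpowers_le.2 (mem_centralizer_singleton_iff.2 (h1 y hy).symm))
  exact mem_centralizer_singleton_iff.1 (hle hx)

theorem exp_step {X : Subgroup G} {g : G} (hX : ∀ x ∈ X, x ^ 3 = 1) (h3 : g ^ 3 = 1)
    (hc : ∀ x ∈ X, x * g = g * x) [Finite G] : ∀ x ∈ X ⊔ zpowers g, x ^ 3 = 1 := by
  intro x hx
  obtain ⟨e, he, n, rfl⟩ := mem_sup_zpowers (normalizes_of_comm hc) hx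
  rw [((show Commute e g from hc e he).zpow_right n).mul_pow, hX e he, one_mul, ← zpow_natCast, ← zpow_mul,
    mul_comm, zpow_mul, zpow_natCast, h3, one_zpow]

/-- What is used of `Q = F*(C(Z))`. -/
structure Ext (Z Q : Subgroup G) : Prop where
  Z_card : Nat.card Z = 3
  Q_card : Nat.card Q = 243
  Q_le : Q ≤ centralizer (Z : Set G)
  norm : normalizer (Z : Set G) ≤ normalizer (Q : Set G)
  Z_eq : (center ↥Q).map Q.subtype = Z
  derived : ⁅Q, Q⁆ ≤ Z
  cube : ∀ x ∈ Q, x ^ 3 = 1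
  cent : centralizer (Q : Set G) = Z

namespace Ext

variable {Z Q : Subgroup G} (h : Ext Z Q)
include h

theorem Z_le : Z ≤ Q := h.Z_eq ▸ map_subtype_le _

theorem Q_norm : centralizer (Z : Set G) ≤ normalizer (Q : Set G) :=
  (centralizer_le_normalizer _).trans h.norm

theorem conj_mem {c x : G} (hc : c ∈ centralizer (Z : Set G)) (hx : x ∈ Q) : c * x * c⁻¹ ∈ Q :=
  (mem_normalizer_iff.1 (h.Q_norm hc) x).1 hx

theorem conj_Z {c z : G} (hc : c ∈ centralizer (Z : Set G)) (hz : z ∈ Z) : c * z * c⁻¹ = z := by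
  rw [← mem_centralizer_iff.1 hc z hz, mul_inv_cancel_right]

theorem comm_Z {x z : G} (hx : x ∈ Q) (hz : z ∈ Z) : z * x = x * z :=
  mem_centralizer_iff.1 (h.Q_le hx) z hz

theorem comm_mem {x y : G} (hx : x ∈ Q) (hy : y ∈ Q) : ⁅x, y⁆ ∈ Z :=
  h.derived (commutator_mem_commutator hx hy)

theorem mem_Z_of_comm {x : G} (hx : x ∈ Q) (hc : ∀ y ∈ Q, y * x = x * y) : x ∈ Z := by
  rw [← h.Z_eq]
  exact ⟨⟨x, hx⟩, mem_center_iff.2 fun y => Subtype.ext (hc y y.2), rfl⟩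

theorem comm_mul_left {a b c : G} (ha : a ∈ Q) (hb : b ∈ Q) (hc : c ∈ Q) :
    ⁅a * b, c⁆ = ⁅a, c⁆ * ⁅b, c⁆ := by
  have hz := h.comm_mem hb hc
  have e : a * ⁅b, c⁆ * a⁻¹ = ⁅b, c⁆ := by rw [← h.comm_Z ha hz, mul_inv_cancel_right]
  calc ⁅a * b, c⁆ = a * ⁅b, c⁆ * a⁻¹ * ⁅a, c⁆ := by simp only [commutatorElement_def]; group
    _ = ⁅b, c⁆ * ⁅a, c⁆ := by rw [e]
    _ = ⁅a, c⁆ * ⁅b, c⁆ := h.comm_Z (h.Z_le (h.comm_mem ha hc)) hz

theorem comm_mul_right {a b c : G} (ha : a ∈ Q) (hb : b ∈ Q) (hc : c ∈ Q) :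
    ⁅c, a * b⁆ = ⁅c, a⁆ * ⁅c, b⁆ := by
  rw [← inv_inj, commutatorElement_inv, mul_inv_rev, commutatorElement_inv, commutatorElement_inv,
    h.comm_mul_left ha hb hc]
  exact h.comm_Z (h.Z_le (h.comm_mem hb hc)) (h.comm_mem ha hc)

/-- The commutator with a fixed element. -/
def commHom {x : G} (hx : x ∈ Q) : ↥Q →* ↥Z :=
  MonoidHom.mk' (fun q => ⟨⁅(q : G), x⁆, h.comm_mem q.2 hx⟩)
    fun p q => Subtype.ext (h.comm_mul_left p.2 q.2 hx)

theorem Z_cube {z : G} (hz : z ∈ Z) : z ^ 3 = 1 := h.cube z (h.Z_le hz)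

theorem pgroup : IsPGroup 3 ↥Q := by
  haveI : Fact (Nat.Prime 3) := ⟨Nat.prime_three⟩
  exact IsPGroup.of_card (n := 5) (by rw [h.Q_card]; norm_num)

theorem exists_gen : ∃ z ∈ Z, z ≠ 1 := by
  by_contra hc
  push Not at hc
  have e : Z = ⊥ := eq_bot_iff.2 fun x hx => mem_bot.2 (hc x hx)
  have h3 := h.Z_card
  rw [e, card_bot] at h3
  omega

theorem zpowers_eq [Finite G] {z : G} (hz : z ∈ Z) (hz1 : z ≠ 1) : zpowers z = Z :=
  zpowers_eq_of_prime h.Z_card hz hz1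

theorem mem_cent [Finite G] {z c : G} (hz : z ∈ Z) (hz1 : z ≠ 1) (hc : c * z = z * c) :
    c ∈ centralizer (Z : Set G) := by
  rw [← h.zpowers_eq hz hz1, zpowers_eq_closure, centralizer_closure]
  exact mem_centralizer_singleton_iff.2 hc

/-- The centralizer in `Q` of an element outside `Z` has order 81. -/
theorem card_Fx [Finite G] {x : G} (hx : x ∈ Q) (hxZ : x ∉ Z) : Nat.card ↥(Fx Q x) = 81 := by
  set φ := h.commHom hx with hφ
  have hk : Nat.card ↥φ.ker = Nat.card ↥(Fx Q x) := Nat.card_congr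
    { toFun := fun q => ⟨((q : ↥Q) : G), mem_inf.2 ⟨(q : ↥Q).2, mem_centralizer_singleton_iff.2
        (commutatorElement_eq_one_iff_mul_comm.1 (congrArg Subtype.val (MonoidHom.mem_ker.1 q.2)))⟩⟩
      invFun := fun q => ⟨⟨q, (mem_inf.1 q.2).1⟩, MonoidHom.mem_ker.2 (Subtype.ext
        (commutatorElement_eq_one_iff_mul_comm.2 (mem_centralizer_singleton_iff.1 (mem_inf.1 q.2).2)))⟩
      left_inv := fun _ => rfl
      right_inv := fun _ => rfl }
  have hne : φ.range ≠ ⊥ := fun e => hxZ (h.mem_Z_of_comm hx fun q hq =>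
    commutatorElement_eq_one_iff_mul_comm.1 (congrArg Subtype.val
      (mem_bot.1 (e.le ⟨⟨q, hq⟩, rfl⟩ : φ ⟨q, hq⟩ ∈ (⊥ : Subgroup ↥Z)))))
  have hr : Nat.card ↥φ.range = 3 := ((Nat.dvd_prime Nat.prime_three).1
    (h.Z_card ▸ φ.range.card_subgroup_dvd_card)).resolve_left fun e => hne (card_eq_one.1 e)
  have hm := φ.ker.card_mul_index
  rw [index_ker, hr, hk, h.Q_card] at hm
  omega

/-- An abelian subgroup of `Q` has order at most 27. -/
theorem abelian_le [Finite G] {A : Subgroup G} (hA : A ≤ Q) (hc : ∀ u ∈ A, ∀ v ∈ A, u * v = v * u) :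
    Nat.card ↥A ≤ 27 := by
  by_contra hlt
  obtain ⟨u, hu, huZ⟩ : ∃ u ∈ A, u ∉ Z := by
    by_contra hno
    push Not at hno
    have := Subgroup.card_le_of_le (show A ≤ Z from hno)
    rw [h.Z_card] at this
    omega
  have hle : A ≤ Fx Q u := fun v hv => mem_inf.2 ⟨hA hv, mem_centralizer_singleton_iff.2 (hc v hv u hu)⟩
  have h81 : Nat.card ↥A = 81 := by
    obtain ⟨k, hk, ek⟩ := (Nat.dvd_prime_pow Nat.prime_three).1 (show Nat.card ↥A ∣ 3 ^ 4 by
      rw [show (3 : ℕ) ^ 4 = Nat.card ↥(Fx Q u) by rw [h.card_Fx (hA hu) huZ]; norm_num]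
      exact card_dvd_of_le hle)
    rw [ek] at hlt ⊢
    interval_cases k <;> simp_all
  obtain ⟨v, hv, hvA⟩ : ∃ v ∈ Q, v ∉ A := by
    by_contra hno
    push Not at hno
    have := Subgroup.card_le_of_le (show Q ≤ A from hno)
    rw [h.Q_card, h81] at this
    omega
  have e2 : A = Fx Q u := Subgroup.eq_of_le_of_card_ge hle (by rw [h81, h.card_Fx (hA hu) huZ])
  have hZA : Z ≤ A := fun z hz => by
    rw [e2]
    exact mem_inf.2 ⟨h.Z_le hz, mem_centralizer_singleton_iff.2 (h.comm_Z (hA hu) hz)⟩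
  have hnA : Q ≤ normalizer (A : Set G) := fun q hq => mem_normalizer_fintype fun a ha => by
    show q * a * q⁻¹ ∈ A
    rw [show q * a * q⁻¹ = ⁅q, a⁆ * a by rw [commutatorElement_def]; group]
    exact mul_mem (hZA (h.comm_mem hq (hA ha))) ha
  have hvZ : v ∉ Z := fun e => hvA (hZA e)
  -- the fixed points of `v` in `A` are central
  have hQ : A ⊔ zpowers v = Q := by
    refine Subgroup.eq_of_le_of_card_ge (sup_le hA (zpowers_le.2 hv)) ?_
    rw [card_step (hnA hv) (h.cube v hv) hvA, h81, h.Q_card]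
  have hMZ : A ⊓ Fx Q v ≤ Z := fun m hm => by
    obtain ⟨hmA, hmF⟩ := mem_inf.1 hm
    refine h.mem_Z_of_comm (hA hmA) fun y hy => ?_
    have e : A ⊔ zpowers v ≤ centralizer ({m} : Set G) :=
      sup_le (fun a ha => mem_centralizer_singleton_iff.2 (hc a ha m hmA))
        (zpowers_le.2 (mem_centralizer_singleton_iff.2
          (mem_centralizer_singleton_iff.1 (mem_inf.1 hmF).2).symm))
    exact mem_centralizer_singleton_iff.1 (e (hQ.ge hy))
  have h3 := card_sup_mul_inf (A := A) (B := Fx Q v) ((inf_le_left : Fx Q v ≤ Q).trans hnA)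
  rw [h81, h.card_Fx hv hvZ] at h3
  have h4 := Subgroup.card_le_of_le (sup_le hA inf_le_left : A ⊔ Fx Q v ≤ Q)
  have h5 := Subgroup.card_le_of_le hMZ
  rw [h.Q_card] at h4
  rw [h.Z_card] at h5
  nlinarith

/-- An abelian subgroup of order 27 of `Q` is its own centralizer there. -/
theorem cent_abelian [Finite G] {A : Subgroup G} (hA : A ≤ Q) (hc : ∀ u ∈ A, ∀ v ∈ A, u * v = v * u)
    (h27 : Nat.card ↥A = 27) {x : G} (hx : x ∈ Q) (hxA : ∀ a ∈ A, a * x = x * a) : x ∈ A := by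
  by_contra hn
  have h1 := h.abelian_le (sup_le hA (zpowers_le.2 hx)) (comm_step hc hxA)
  rw [card_step (normalizes_of_comm hxA) (h.cube x hx) hn, h27] at h1
  omega

/-- Conjugates. -/
theorem conj (g : G) : Ext (cj g Z) (cj g Q) := by
  refine ⟨by rw [card_cj, h.Z_card], by rw [card_cj, h.Q_card], ?_, ?_, ?_, ?_, ?_, ?_⟩
  · rw [cj_centralizer]; exact map_mono h.Q_le
  · rw [cj_normalizer, cj_normalizer]; exact map_mono h.norm
  · ext x
    constructor
    · rintro ⟨⟨w, hw⟩, hwc, rfl⟩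
      refine mem_cj.2 (h.mem_Z_of_comm (mem_cj.1 hw) fun u hu => ?_)
      have e : g * u * g⁻¹ * w = w * (g * u * g⁻¹) :=
        congrArg Subtype.val (mem_center_iff.1 hwc ⟨_, conj_mem_cj.2 hu⟩)
      calc u * (g⁻¹ * w * g) = g⁻¹ * (g * u * g⁻¹ * w) * g := by group
        _ = g⁻¹ * w * g * u := by rw [e]; group
    · intro hx
      have hxQ : x ∈ cj g Q := mem_cj.2 (h.Z_le (mem_cj.1 hx))
      refine ⟨⟨x, hxQ⟩, mem_center_iff.2 fun w => Subtype.ext ?_, rfl⟩
      have e := h.comm_Z (mem_cj.1 w.2) (mem_cj.1 hx)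
      show (w : G) * x = x * w
      calc (w : G) * x = g * ((g⁻¹ * w * g) * (g⁻¹ * x * g)) * g⁻¹ := by group
        _ = _ := by rw [← e]; group
  · rw [← Subgroup.map_commutator]; exact map_mono h.derived
  · rintro _ ⟨x, hx, rfl⟩; rw [← map_pow, h.cube x hx, map_one]
  · rw [cj_centralizer, h.cent]

end Ext

end Cfsg.Agent.FFourLocal
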