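import Cfsg.Agent.Lib.UThreeLocal.Loc.Action
import Cfsg.Agent.Lib.UThreeLocal.Loc.Flag
import Cfsg.Agent.Lib.PGroups.UniqueSubgroup

/-!
# The complements are quaternion
-/

set_option autoImplicit false
set_option linter.unusedSectionVars false
set_option linter.style.haveILetI false

namespace Cfsg.Agent.FFourLocal

open Subgroup
open Cfsg.Agent.UThreeLocal (Frame Setting)
open scoped commutatorElement

universe u

variable {G : Type u} [Group G] [Finite G] {Z Q Q1 Q2 L1 L2 : Subgroup G} {t1 t2 : G}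

theorem comm_zpow_eq {s : Setting Z Q} {a b : G} (ha : a ∈ Q) (hb : b ∈ Q) (n : ℤ) :
    ⁅a, b ^ n⁆ = ⁅a, b⁆ ^ n := by
  induction n using Int.induction_on with
  | zero => rw [zpow_zero, zpow_zero, commutatorElement_one_right]
  | succ k ih => rw [zpow_add_one, zpow_add_one, s.comm_mul_right (zpow_mem hb _) hb ha, ih]
  | pred k ih =>
    rw [zpow_sub_one, zpow_sub_one, s.comm_mul_right (zpow_mem hb _) (inv_mem hb) ha, ih]
    have h1 : ⁅a, b⁆ * ⁅a, b⁻¹⁆ = 1 := by
      rw [← s.comm_mul_right hb (inv_mem hb) ha, mul_inv_cancel, commutatorElement_one_right]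
    rw [inv_eq_of_mul_eq_one_right h1]

theorem zpow_mod_three {g : G} (h3 : g ^ 3 = 1) (n : ℤ) : g ^ n = g ^ (n % 3) := by
  conv_lhs => rw [← Int.mul_ediv_add_emod n 3]
  rw [zpow_add, zpow_mul, show (3 : ℤ) = ((3 : ℕ) : ℤ) from rfl, zpow_natCast, h3, one_zpow, one_mul]

/-- No element of order eight. -/
theorem no_eight (F : Frame Z Q Q1 Q2 L1 L2 t1 t2) {l : G} (hl : l ∈ L1) (h4 : l ^ 4 = t1) : False := by
  have h := F.set
  obtain ⟨a, ha, haZ⟩ : ∃ a ∈ Q1, a ∉ Z := by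
    by_contra hc
    push Not at hc
    have := Subgroup.card_le_of_le (show Q1 ≤ Z from hc)
    rw [F.pair.card1, h.Z_card] at this
    omega
  have haQ := F.pair.le1 ha
  have hlC := F.L1_le hl
  set b := l * a * l⁻¹ with hb
  set c := l * b * l⁻¹ with hc
  set d := l * c * l⁻¹ with hd
  have hcj : ∀ {x : G}, x ∈ Q1 → l * x * l⁻¹ ∈ Q1 := fun {x} hx =>
    (mem_normalizer_iff.1 (F.L1_norm hl) x).1 hx
  have hb1 : b ∈ Q1 := hcj ha
  have hc1 : c ∈ Q1 := hcj hb1
  have hd1 : d ∈ Q1 := hcj hc1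
  have hl8 : l ^ 2 ^ 3 = 1 := by
    rw [show 2 ^ 3 = 4 * 2 from rfl, pow_mul, h4, ← F.t1_two, pow_orderOf_eq_one]
  -- no conjugate under a proper power lies in the line of `a`
  have hfree : ∀ k, (k = 1 ∨ k = 2) → l ^ k * a * (l ^ k)⁻¹ ∉ Z ⊔ zpowers a := by
    intro k hk hmem
    have hn : zpowers a ≤ normalizer (Z : Set G) := zpowers_le.2 (mem_normalizer_fintype fun z hz => by
      rw [SetLike.mem_coe, ← h.comm_Z haQ hz, mul_inv_cancel_right]; exact hz)
    rw [← SetLike.mem_coe, coe_mul_of_right_le_normalizer_left _ _ hn] at hmem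
    obtain ⟨z, hz, _, ⟨n, rfl⟩, e⟩ := hmem
    change z * a ^ n = _ at e
    -- the square of the power fixes `a` modulo `Z`
    have hkC : l ^ k ∈ centralizer (Z : Set G) := pow_mem hlC k
    have e2 : l ^ k * (l ^ k * a * (l ^ k)⁻¹) * (l ^ k)⁻¹ = z * z ^ n * a ^ (n * n) := by
      calc l ^ k * (l ^ k * a * (l ^ k)⁻¹) * (l ^ k)⁻¹ = l ^ k * (z * a ^ n) * (l ^ k)⁻¹ := by rw [e]
        _ = (l ^ k * z * (l ^ k)⁻¹) * (l ^ k * a * (l ^ k)⁻¹) ^ n := by rw [conj_zpow]; group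
        _ = z * (z * a ^ n) ^ n := by rw [h.conj_Z hkC hz, ← e]
        _ = z * z ^ n * a ^ (n * n) := by
          rw [(show Commute z (a ^ n) from Commute.zpow_right (h.comm_Z haQ hz) n).mul_zpow, zpow_mul]
          group
    have hn3 : ¬ (n % 3 = 0) := fun e0 => by
      rw [zpow_mod_three (F.cube a haQ) n, e0, zpow_zero, mul_one] at e
      have := h.conj_Z (inv_mem hkC) hz
      refine haZ ?_
      have e' : a = z := by
        calc a = (l ^ k)⁻¹ * z * ((l ^ k)⁻¹)⁻¹ := by rw [e]; group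
          _ = z := this
      rw [e']; exact hz
    have hnn : n * n % 3 = 1 := by
      rw [Int.mul_emod]
      rcases (by omega : n % 3 = 1 ∨ n % 3 = 2) with e1 | e1 <;> rw [e1] <;> norm_num
    rw [zpow_mod_three (F.cube a haQ) (n * n), hnn, zpow_one] at e2
    have hmod : a⁻¹ * (l ^ (2 * k) * a * (l ^ (2 * k))⁻¹) ∈ Z := by
      rw [show a⁻¹ * (l ^ (2 * k) * a * (l ^ (2 * k))⁻¹) =
        a⁻¹ * (l ^ k * (l ^ k * a * (l ^ k)⁻¹) * (l ^ k)⁻¹) by rw [two_mul, pow_add]; group, e2]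
      have hzz : z * z ^ n ∈ Z := mul_mem hz (zpow_mem hz n)
      rw [h.comm_Z haQ hzz, inv_mul_cancel_left]
      exact hzz
    have hfix := F.pair.free h (l := l ^ (2 * k)) (e := 3) (pow_mem hlC _) (pow_mem (F.L1_norm hl) _)
      (by rw [← pow_mul, mul_comm, pow_mul, hl8, one_pow]) ha haZ hmod
    -- so the fourth power centralises `a`
    have h4c : t1 ∈ centralizer (Q1 : Set G) := by
      rw [← h4]
      rcases hk with rfl | rfl
      · rw [show 4 = 2 * 1 * 2 from rfl, pow_mul]; exact pow_mem hfix 2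
      · exact hfix
    have := F.t1_inv a ha
    rw [← mem_centralizer_iff.1 h4c a ha, mul_inv_cancel_right] at this
    refine haZ ?_
    have h3 := F.cube a haQ
    rw [show a = (a * a)⁻¹ * a ^ 3 by group, h3, mul_one]
    exact inv_mem this
  have hb0 : b ∉ Z ⊔ zpowers a := by simpa using hfree 1 (Or.inl rfl)
  have hc0 : c ∉ Z ⊔ zpowers a := by
    have := hfree 2 (Or.inr rfl)
    rw [hc, hb]
    convert this using 2
    rw [pow_two]; group
  -- the three commutators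
  set f := ⁅a, b⁆ with hf
  have hf1 : f ≠ 1 := fun e => hb0 (by
    rw [← F.pair.cent_eq h ha haZ]
    exact ⟨hb1, mem_centralizer_singleton_iff.2 (commutatorElement_eq_one_iff_mul_comm.1 e).symm⟩)
  have hcjc : ∀ {x y : G}, x ∈ Q1 → y ∈ Q1 → ⁅l * x * l⁻¹, l * y * l⁻¹⁆ = ⁅x, y⁆ := fun {x y} hx hy => by
    have := h.conj_Z hlC (h.comm_mem (F.pair.le1 hx) (F.pair.le1 hy))
    conv_rhs => rw [← this]
    simp only [commutatorElement_def]; group
  have hfd : ⁅a, d⁆ = f := by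
    have e4 : l * d * l⁻¹ = t1 * a * t1⁻¹ := by
      rw [hd, hc, hb, ← h4, show 4 = 1 + 1 + 1 + 1 from rfl, pow_add, pow_add, pow_add, pow_one]; group
    set z := t1 * a * t1⁻¹ * a with hz
    have hzZ : z ∈ Z := F.t1_inv a ha
    have e5 : l * d * l⁻¹ = z * a⁻¹ := by rw [e4, hz]; group
    rw [← hcjc ha hd1, ← hb, e5, h.comm_mul_right (h.Z_le hzZ) (inv_mem haQ) (F.pair.le1 hb1),
      commutatorElement_eq_one_iff_mul_comm.2 (h.comm_Z (F.pair.le1 hb1) hzZ).symm, one_mul, hf]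
    have h1 : ⁅b, a⁆ * ⁅b, a⁻¹⁆ = 1 := by
      rw [← h.comm_mul_right haQ (inv_mem haQ) (F.pair.le1 hb1), mul_inv_cancel, commutatorElement_one_right]
    rw [← inv_eq_of_mul_eq_one_right h1, commutatorElement_inv]
  -- `c` in terms of `a` and `b`
  haveI : Fact (Nat.Prime 3) := ⟨Nat.prime_three⟩
  set A := Z ⊔ zpowers a with hA
  have hAQ : A ≤ Q1 := sup_le F.pair.Z1 (zpowers_le.2 ha)
  have hnA : zpowers b ≤ normalizer (A : Set G) :=
    zpowers_le.2 (h.normal_of_Z_le (hAQ.trans F.pair.le1) le_sup_left (F.pair.le1 hb1))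
  have htop : A ⊔ zpowers b = Q1 := by
    refine Subgroup.eq_of_le_of_card_ge (sup_le hAQ (zpowers_le.2 hb1)) ?_
    have hd3 : Nat.card ↥(A ⊔ zpowers b) ∣ 3 ^ 3 := by
      rw [show (3 : ℕ) ^ 3 = Nat.card Q1 by rw [F.pair.card1]; norm_num]
      exact card_dvd_of_le (sup_le hAQ (zpowers_le.2 hb1))
    obtain ⟨k, hk, ek⟩ := (Nat.dvd_prime_pow Nat.prime_three).1 hd3
    have hA9 : Nat.card ↥A = 9 := F.card_flag (P := ⊥) ⟨ha, haZ, fun c hc => by
      rw [mem_bot.1 hc, one_mul, inv_one, mul_one, inv_mul_cancel]; exact one_mem _, fun c hc x _ => by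
      rw [mem_bot.1 hc, one_mul, inv_one, mul_one, inv_mul_cancel]; exact one_mem _⟩
    have hlt : Nat.card ↥A < Nat.card ↥(A ⊔ zpowers b) :=
      lt_of_le_of_ne (Subgroup.card_le_of_le le_sup_left) fun e => hb0
        ((Subgroup.eq_of_le_of_card_ge le_sup_left e.ge).ge (mem_sup_right (mem_zpowers b)))
    rw [hA9, ek] at hlt
    rw [F.pair.card1, ek]
    interval_cases k <;> simp_all
  have hmemA : ∀ x ∈ A, ∃ z ∈ Z, ∃ n : ℤ, x = z * a ^ n := by
    intro x hx
    rw [hA, ← SetLike.mem_coe, coe_mul_of_right_le_normalizer_left _ _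
      (zpowers_le.2 (mem_normalizer_fintype fun z hz => by
        rw [SetLike.mem_coe, ← h.comm_Z haQ hz, mul_inv_cancel_right]; exact hz))] at hx
    obtain ⟨z, hz, _, ⟨n, rfl⟩, rfl⟩ := hx
    exact ⟨z, hz, n, rfl⟩
  have hmem : c ∈ A ⊔ zpowers b := htop.ge hc1
  rw [← SetLike.mem_coe, coe_mul_of_right_le_normalizer_left _ _ hnA] at hmem
  obtain ⟨u, hu, _, ⟨s, rfl⟩, ec⟩ := hmem
  change u * b ^ s = c at ec
  obtain ⟨z, hz, e, rfl⟩ := hmemA u hu
  have hs : ¬ s % 3 = 0 := fun e0 => hc0 (by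
    rw [← ec, zpow_mod_three (F.cube b (F.pair.le1 hb1)) s, e0, zpow_zero, mul_one]; exact hu)
  have hbc : ⁅a, c⁆ = f ^ s := by
    rw [← ec, h.comm_mul_right (F.pair.le1 (hAQ hu)) (zpow_mem (F.pair.le1 hb1) s) haQ,
      comm_zpow_eq (s := h) haQ (F.pair.le1 hb1)]
    have : ⁅a, z * a ^ e⁆ = 1 := commutatorElement_eq_one_iff_mul_comm.2
      ((Commute.mul_right (h.comm_Z haQ hz).symm (Commute.self_zpow a e) : Commute a (z * a ^ e)).eq)
    rw [this, one_mul, hf]
  have ed : d = z * b ^ e * c ^ s := by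
    have hlz := h.conj_Z hlC hz
    calc d = l * (z * a ^ e * b ^ s) * l⁻¹ := by rw [ec]
      _ = (l * z * l⁻¹) * (l * a * l⁻¹) ^ e * (l * b * l⁻¹) ^ s := by
          simp only [← MulAut.conj_apply, map_mul, map_zpow]
      _ = _ := by rw [hlz]
  have hdd : ⁅a, d⁆ = f ^ (e + s * s) := by
    rw [ed, h.comm_mul_right (mul_mem (h.Z_le hz) (zpow_mem (F.pair.le1 hb1) e)) (zpow_mem (F.pair.le1 hc1) s) haQ,
      h.comm_mul_right (h.Z_le hz) (zpow_mem (F.pair.le1 hb1) e) haQ,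
      commutatorElement_eq_one_iff_mul_comm.2 (h.comm_Z haQ hz).symm, one_mul,
      comm_zpow_eq (s := h) haQ (F.pair.le1 hb1), comm_zpow_eq (s := h) haQ (F.pair.le1 hc1), hbc, ← zpow_mul,
      ← zpow_add]
  have hf3 : f ^ 3 = 1 := h.cube a haQ b (F.pair.le1 hb1)
  have he : e % 3 = 0 := by
    have h1 : f ^ (e + s * s - 1) = 1 := by rw [zpow_sub, ← hdd, hfd, zpow_one, mul_inv_cancel]
    rw [zpow_mod_three hf3] at h1
    have hss : s * s % 3 = 1 := by
      rw [Int.mul_emod]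
      rcases (by omega : s % 3 = 1 ∨ s % 3 = 2) with e1 | e1 <;> rw [e1] <;> norm_num
    rcases (by omega : (e + s * s - 1) % 3 = 0 ∨ (e + s * s - 1) % 3 = 1 ∨ (e + s * s - 1) % 3 = 2) with
      e1 | e1 | e1
    · omega
    · rw [e1, zpow_one] at h1; exact absurd h1 hf1
    · rw [e1] at h1
      refine absurd ?_ hf1
      rw [show f = (f ^ (2 : ℤ))⁻¹ * f ^ 3 by group, h1, hf3, inv_one, one_mul]
  -- hence `b` is on the line of `a`
  rw [zpow_mod_three (F.cube a haQ) e, he, zpow_zero, mul_one] at ec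
  refine hb0 ?_
  have : b = l⁻¹ * c * l := by rw [hc]; group
  have hzi : l⁻¹ * z * l = z := by simpa using h.conj_Z (inv_mem hlC) hz
  rw [this, ← ec, show l⁻¹ * (z * b ^ s) * l = (l⁻¹ * z * l) * (l⁻¹ * b * l) ^ s by
    have e7 := map_mul (MulAut.conj l⁻¹) z (b ^ s)
    rw [map_zpow] at e7
    simpa only [MulAut.conj_apply, inv_inv] using e7, hzi, show l⁻¹ * b * l = a by rw [hb]; group]
  exact mul_mem (mem_sup_left hz) (mem_sup_right (zpow_mem (mem_zpowers a) s))

/-- The complement of one factor is quaternion. -/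
theorem quat (F : Frame Z Q Q1 Q2 L1 L2 t1 t2) : Nonempty (↥L1 ≃* QuaternionGroup 2) := by
  haveI : Fact (Nat.Prime 2) := ⟨Nat.prime_two⟩
  have h := F.set
  have hp : IsPGroup 2 ↥L1 := IsPGroup.of_card (n := 3) (by rw [F.L1_card]; norm_num)
  -- one involution
  have huniq : ∀ s : ↥L1, s * s = 1 → s ≠ 1 → (s : G) = t1 := by
    intro s hs hs1
    have hss : (s : G) * s = 1 := congrArg Subtype.val hs
    have hstriv : ∀ r : G, r ∈ L1 → r ∈ centralizer (Q1 : Set G) → r = 1 := by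
      intro r hr hr1
      have hrQ : r ∈ Z := by
        rw [← h.cent]
        refine mem_centralizer_iff.2 fun x hx => ?_
        obtain ⟨u, hu, v, hv, rfl⟩ := F.pair.dec x hx
        rw [mul_assoc, mem_centralizer_iff.1 (F.L1_cent hr) v hv, ← mul_assoc,
          mem_centralizer_iff.1 hr1 u hu, mul_assoc]
      have h8 : r ^ 8 = 1 := by
        have := pow_card_eq_one' (x := (⟨r, hr⟩ : ↥L1))
        rw [F.L1_card] at this
        simpa using congrArg Subtype.val this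
      have := pow_gcd_eq_one.2 ⟨h.Z_cube hrQ, h8⟩
      rwa [show Nat.gcd 3 8 = 1 from rfl, pow_one] at this
    have hinv : ∀ x ∈ Q1, (s : G) * x * (s : G)⁻¹ * x ∈ Z :=
      (F.pair.dichotomy h (F.L1_le s.2) (F.L1_norm s.2) hss).resolve_left fun e =>
        hs1 (Subtype.ext (hstriv _ s.2 e))
    have ht : t1 * t1 = 1 := by rw [← pow_two, ← F.t1_two, pow_orderOf_eq_one]
    have hm : (s : G) * t1 ∈ centralizer (Q1 : Set G) := by
      obtain ⟨a, ha, haZ⟩ : ∃ a ∈ Q1, a ∉ Z := by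
        by_contra hc
        push Not at hc
        have := Subgroup.card_le_of_le (show Q1 ≤ Z from hc)
        rw [F.pair.card1, h.Z_card] at this
        omega
      refine F.pair.free h (e := 3) (mul_mem (F.L1_le s.2) (F.L1_le F.t1_mem))
        (mul_mem (F.L1_norm s.2) (F.L1_norm F.t1_mem)) ?_ ha haZ ?_
      · have := pow_card_eq_one' (x := (⟨(s : G) * t1, mul_mem s.2 F.t1_mem⟩ : ↥L1))
        rw [F.L1_card] at this
        simpa using congrArg Subtype.val this
      · set z1 := t1 * a * t1⁻¹ * a with hz1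
        have hz : z1 ∈ Z := F.t1_inv a ha
        have e : a⁻¹ * ((s : G) * t1 * a * ((s : G) * t1)⁻¹) =
            a⁻¹ * ((s : G) * z1 * (s : G)⁻¹) * ((s : G) * a⁻¹ * (s : G)⁻¹) := by rw [hz1]; group
        rw [e, h.conj_Z (F.L1_le s.2) hz]
        set z2 := (s : G) * a⁻¹ * (s : G)⁻¹ * a⁻¹ with hz2
        have h2 : z2 ∈ Z := hinv _ (inv_mem ha)
        rw [show (s : G) * a⁻¹ * (s : G)⁻¹ = z2 * a by rw [hz2]; group,
          ← h.comm_Z (inv_mem (F.pair.le1 ha)) hz, mul_assoc, h.comm_Z (F.pair.le1 ha) h2, inv_mul_cancel_left]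
        exact mul_mem hz h2
    have := hstriv _ (mul_mem s.2 F.t1_mem) hm
    rw [eq_inv_of_mul_eq_one_left this, inv_eq_of_mul_eq_one_right ht]
  rcases Cfsg.Agent.PGroups.UniqueSubgroup.isCyclic_or_quaternion hp (by
      intro A B hA hB
      have key : ∀ C : Subgroup ↥L1, Nat.card C = 2 → C = zpowers ⟨t1, F.t1_mem⟩ := by
        intro C hC
        obtain ⟨s, hs⟩ := exists_prime_orderOf_dvd_card' (G := ↥C) 2 (by rw [hC])
        have hs' : orderOf (s : ↥L1) = 2 := by rw [Subgroup.orderOf_coe, hs]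
        have e : (s : ↥L1) = ⟨t1, F.t1_mem⟩ := Subtype.ext (huniq _ (by rw [← pow_two, ← hs', pow_orderOf_eq_one])
          fun e => by rw [e, orderOf_one] at hs'; norm_num at hs')
        rw [← e]
        refine (Subgroup.eq_of_le_of_card_ge (zpowers_le.2 s.2) ?_).symm
        rw [hC, Nat.card_zpowers, hs']
      rw [key A hA, key B hB]) with hcyc | ⟨-, n, ⟨e⟩⟩
  · obtain ⟨l, hl⟩ := hcyc.exists_ofOrder_eq_natCard
    rw [F.L1_card] at hl
    refine (no_eight F l.2 ?_).elim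
    have h4 : orderOf (l ^ 4) = 2 := by rw [orderOf_pow' _ (by norm_num), hl]; norm_num
    have := huniq (l ^ 4) (by rw [← pow_two, ← h4, pow_orderOf_eq_one])
      fun e => by rw [e, orderOf_one] at h4; norm_num at h4
    simpa using this
  · have hc := Nat.card_congr e.toEquiv
    rw [F.L1_card, Nat.card_eq_fintype_card, QuaternionGroup.card] at hc
    rw [show 2 ^ n = 2 by omega] at e
    exact ⟨e⟩

end Cfsg.Agent.FFourLocal
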