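import Cfsg.Agent.Lib.FFourLocal.Loc.Ext
import Cfsg.Agent.Lib.FFourLocal.Loc.Quat
import Cfsg.Agent.Lib.UThreeLocal.Loc.Char

/-!
# The frame inside the centraliser, from the statement's hypotheses
-/

set_option autoImplicit false
set_option linter.unusedSectionVars false
set_option linter.style.haveILetI false

namespace Cfsg.Agent.FFourLocal

open Subgroup
open Cfsg.Agent.UThreeLocal (cj mem_cj conj_mem_cj card_cj cj_centralizer cj_normalizer Fx mem_Fx Triv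
  Frame Setting QQ card_QQ Flag)
open scoped commutatorElement

universe u

variable {G : Type u} [Group G]

/-- What the hypotheses say inside `G` about `Q = F*(C(Z))`. -/
structure Core (Z Q : Subgroup G) : Prop where
  Z_card : Nat.card Z = 3
  Q_card : Nat.card Q = 243
  Q_le : Q ≤ centralizer (Z : Set G)
  Q_norm : centralizer (Z : Set G) ≤ normalizer (Q : Set G)
  Z_eq : (center ↥Q).map Q.subtype = Z
  derived : ⁅Q, Q⁆ ≤ Z
  cube : ∀ x ∈ Q, ∀ y ∈ Q, ⁅x, y⁆ ^ 3 = 1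
  cent : centralizer (Q : Set G) = Z
  L : ∃ L : Subgroup G, L ≤ centralizer (Z : Set G) ∧ Nonempty (↥L ≃* QQ) ∧
    centralizer (Z : Set G) ≤ normalizer ((Q ⊔ L : Subgroup G) : Set G)

/-- The statement's hypotheses give the setting. -/
theorem exists_core [Finite G] (Z H : Subgroup G) (hZ3 : Nat.card Z = 3)
    (hH : H = centralizer (Z : Set G))
    (hQ : Cfsg.IsExtraspecial 3 ↥(Cfsg.generalizedFittingSubgroup ↥H))
    (hQord : Nat.card ↥(Cfsg.generalizedFittingSubgroup ↥H) = 3 ^ 5)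
    (hZ : center ↥(Cfsg.generalizedFittingSubgroup ↥H) =
      (center ↥H).subgroupOf (Cfsg.generalizedFittingSubgroup ↥H))
    (hN : ∃ _ : (Cfsg.generalizedFittingSubgroup ↥H).Normal,
      ∃ N : Subgroup (↥H ⧸ Cfsg.generalizedFittingSubgroup ↥H), N.Normal ∧ Nonempty (↥N ≃* QQ)) :
    Core Z ((Cfsg.generalizedFittingSubgroup ↥H).map H.subtype) := by
  classical
  haveI : Fact (Nat.Prime 3) := ⟨Nat.prime_three⟩
  obtain ⟨hFn, N, hNn, ⟨eN⟩⟩ := hN
  set F := Cfsg.generalizedFittingSubgroup ↥H with hFd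
  set Q := F.map H.subtype with hQd
  have hFF : centralizer (F : Set ↥H) ≤ F := Cfsg.Agent.Components.Fitting.centralizer_genFitting_le
  have hinj : Function.Injective H.subtype := H.subtype_injective
  -- the centre
  have hZH : ∀ x ∈ Z, ∃ hx : x ∈ H, (⟨x, hx⟩ : ↥H) ∈ center ↥H := by
    intro x hx
    have hxH : x ∈ H := by
      rw [hH]
      exact mem_centralizer_iff.2 fun y hy => by
        haveI : IsCyclic ↥Z := isCyclic_of_prime_card hZ3
        exact congrArg Subtype.val (IsMulCommutative.is_comm.comm (⟨y, hy⟩ : ↥Z) ⟨x, hx⟩)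
    refine ⟨hxH, mem_center_iff.2 fun y => Subtype.ext ?_⟩
    exact (mem_centralizer_iff.1 (hH ▸ y.2) x hx).symm
  have hcen : center ↥H ≤ F := fun x hx => hFF (mem_centralizer_iff.2 fun y _ => mem_center_iff.1 hx y)
  have hcard : Nat.card ↥((center ↥F).map F.subtype) = 3 := by
    rw [card_map_of_injective F.subtype_injective, hQ.2]
  have heq : (center ↥F).map F.subtype = center ↥H := by
    rw [hZ, map_subgroupOf_eq_of_le hcen]
  have hZeq : Z = (center ↥H).map H.subtype := by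
    refine Subgroup.eq_of_le_of_card_ge (fun x hx => ?_) ?_
    · obtain ⟨hxH, hxc⟩ := hZH x hx
      exact ⟨_, hxc, rfl⟩
    · rw [card_map_of_injective hinj, ← heq, hcard, hZ3]
  have hFZ : (center ↥Q).map Q.subtype = Z := by
    rw [hZeq, ← heq]
    ext x
    constructor
    · rintro ⟨⟨_, y, hy, rfl⟩, hyc, rfl⟩
      refine ⟨y, ⟨⟨y, hy⟩, mem_center_iff.2 fun u => Subtype.ext (hinj ?_), rfl⟩, rfl⟩
      simp only [Subgroup.coe_mul, map_mul]
      exact congrArg Subtype.val (mem_center_iff.1 hyc ⟨_, u, u.2, rfl⟩)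
    · rintro ⟨_, ⟨⟨y, hy⟩, hyc, rfl⟩, rfl⟩
      refine ⟨⟨_, y, hy, rfl⟩, mem_center_iff.2 ?_, rfl⟩
      rintro ⟨_, u, hu, rfl⟩
      refine Subtype.ext ?_
      simp only [Subgroup.coe_mul, ← map_mul]
      exact congrArg H.subtype (congrArg Subtype.val (mem_center_iff.1 hyc ⟨u, hu⟩))
  have hder : ⁅Q, Q⁆ ≤ Z := by
    rw [hQd, ← Subgroup.map_commutator, hZeq]
    refine map_mono ?_
    rw [← heq, ← hQ.1.2.2, map_subtype_commutator]
  have hQH : Q ≤ centralizer (Z : Set G) := hH ▸ map_subtype_le _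
  have hcentQ : centralizer (Q : Set G) = Z := by
    refine le_antisymm (fun x hx => ?_) ?_
    · have hxH : x ∈ H := by
        rw [hH]
        exact mem_centralizer_iff.2 fun y hy => mem_centralizer_iff.1 hx y
          (map_mono hcen (hZeq ▸ hy))
      have hxF : (⟨x, hxH⟩ : ↥H) ∈ F := hFF (mem_centralizer_iff.2 fun y hy =>
        Subtype.ext (mem_centralizer_iff.1 hx _ ⟨y, hy, rfl⟩))
      rw [← hFZ]
      exact ⟨⟨x, _, hxF, rfl⟩, mem_center_iff.2 fun y => Subtype.ext (mem_centralizer_iff.1 hx _ y.2), rfl⟩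
    · intro x hx
      exact mem_centralizer_iff.2 fun y hy => (mem_centralizer_iff.1 (hQH hy) x hx).symm
  have hQc : Nat.card Q = 243 := by rw [hQd, card_map_of_injective hinj, hQord]; norm_num
  refine ⟨hZ3, hQc, hQH, ?_, hFZ, hder, ?_, hcentQ, ?_⟩
  · rw [← hH]
    intro g hg
    refine Subgroup.mem_normalizer_fintype fun x hx => ?_
    obtain ⟨y, hy, rfl⟩ := hx
    exact ⟨⟨g, hg⟩ * y * ⟨g, hg⟩⁻¹, hFn.conj_mem y hy _, rfl⟩
  · intro x hx y hy
    have hz : ⁅x, y⁆ ∈ Z := hder (commutator_mem_commutator hx hy)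
    have := pow_card_eq_one' (x := (⟨_, hz⟩ : ↥Z))
    rw [hZ3] at this
    simpa using congrArg Subtype.val this
  · -- the complement
    set M := N.comap (QuotientGroup.mk' F) with hM
    have hMn : M.Normal := hNn.comap _
    have hFM : F ≤ M := fun x hx => by
      rw [hM, mem_comap, QuotientGroup.mk'_apply, (QuotientGroup.eq_one_iff x).2 hx]; exact one_mem _
    let ρ : ↥M →* ↥N := (QuotientGroup.mk' F).subgroupComap N
    have hρ : Function.Surjective ρ :=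
      (QuotientGroup.mk' F).subgroupComap_surjective_of_surjective N (QuotientGroup.mk'_surjective F)
    have hker : ρ.ker = F.subgroupOf M := by
      ext x
      rw [MonoidHom.mem_ker, mem_subgroupOf]
      constructor
      · intro hx
        exact (QuotientGroup.eq_one_iff _).1 (congrArg Subtype.val hx)
      · intro hx
        exact Subtype.ext ((QuotientGroup.eq_one_iff _).2 hx)
    have hidx : (F.subgroupOf M).index = 64 := by
      rw [← hker, index_ker, MonoidHom.range_eq_top.2 hρ, card_top, Nat.card_congr eN.toEquiv, card_QQ]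
    have hFc : Nat.card ↥(F.subgroupOf M) = 243 := by
      rw [Nat.card_congr (subgroupOfEquivOfLe hFM).toEquiv, hQord]; norm_num
    haveI : (F.subgroupOf M).Normal := inferInstance
    obtain ⟨L, hL⟩ := Subgroup.exists_right_complement'_of_coprime (N := F.subgroupOf M)
      (by rw [hFc, hidx]; norm_num)
    let eL : ↥L ≃* ↥N := MulEquiv.ofBijective (ρ.comp L.subtype) ⟨by
      rw [injective_iff_map_eq_one]
      intro x hx
      have h1 : (x : ↥M) ∈ F.subgroupOf M := hker ▸ hx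
      have := hL.disjoint.le_bot ⟨h1, x.2⟩
      exact Subtype.ext (mem_bot.1 this), fun y => by
      obtain ⟨x, rfl⟩ := hρ y
      obtain ⟨⟨a, b⟩, hab, -⟩ := Subgroup.IsComplement.existsUnique hL x
      refine ⟨b, ?_⟩
      show ρ (b : ↥M) = ρ x
      rw [← hab, map_mul, show ρ (a : ↥M) = 1 by rw [← MonoidHom.mem_ker, hker]; exact a.2, one_mul]⟩
    refine ⟨(L.map M.subtype).map H.subtype, hH ▸ map_subtype_le _,
      ⟨(((L.equivMapOfInjective M.subtype M.subtype_injective).trans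
        ((L.map M.subtype).equivMapOfInjective H.subtype hinj)).symm.trans eL).trans eN⟩, ?_⟩
    have hsup : Q ⊔ (L.map M.subtype).map H.subtype = M.map H.subtype := by
      rw [hQd, ← Subgroup.map_sup]
      congr 1
      rw [← map_subgroupOf_eq_of_le hFM, ← Subgroup.map_sup, hL.sup_eq_top, ← MonoidHom.range_eq_map, range_subtype]
    rw [hsup, ← hH]
    intro g hg
    refine Subgroup.mem_normalizer_fintype fun x hx => ?_
    obtain ⟨y, hy, rfl⟩ := hx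
    exact ⟨⟨g, hg⟩ * y * ⟨g, hg⟩⁻¹, hMn.conj_mem y hy _, rfl⟩
variable {Z Q Q1 Q2 L1 L2 : Subgroup G} {t1 t2 : G}

/-- The copy of a subgroup inside `C(Z)`. -/
abbrev inC (Z K : Subgroup G) : Subgroup ↥(centralizer (Z : Set G)) := K.subgroupOf (centralizer (Z : Set G))

/-- The setting inside the centraliser, where weak closure is trivial. -/
theorem Core.setting [Finite G] (h : Core Z Q) : Setting (inC Z Z) (inC Z Q) := by
  set C := centralizer (Z : Set G) with hC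
  have hZQ : Z ≤ Q := h.Z_eq ▸ map_subtype_le _
  have hQC : Q ≤ C := h.Q_le
  have hZC : Z ≤ C := hZQ.trans hQC
  have hcent : ∀ {S : Subgroup G}, S ≤ C → ∀ {x : ↥C},
      x ∈ centralizer ((inC Z S : Subgroup ↥C) : Set ↥C) ↔ (x : G) ∈ centralizer (S : Set G) := by
    intro S hS x
    simp only [mem_centralizer_iff, SetLike.mem_coe, mem_subgroupOf]
    exact ⟨fun hx y hy => congrArg Subtype.val (hx ⟨y, hS hy⟩ hy), fun hx y hy => Subtype.ext (hx y hy)⟩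
  have hnorm : ∀ {S : Subgroup G} {x : ↥C}, (x : G) ∈ normalizer (S : Set G) →
      x ∈ normalizer ((inC Z S : Subgroup ↥C) : Set ↥C) := fun {S x} hx =>
    mem_normalizer_iff.2 fun y => by
      simp only [mem_subgroupOf, Subgroup.coe_mul, Subgroup.coe_inv]
      exact mem_normalizer_iff.1 hx y
  have hmem : ∀ {a b : G}, a ∈ Q → b ∈ Q → ⁅a, b⁆ ∈ Z := fun ha hb =>
    h.derived (commutator_mem_commutator ha hb)
  refine ⟨by rw [Nat.card_congr (subgroupOfEquivOfLe hZC).toEquiv, h.Z_card],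
    by rw [Nat.card_congr (subgroupOfEquivOfLe hQC).toEquiv, h.Q_card],
    fun x hx => (hcent hZC).2 (hQC (mem_subgroupOf.1 hx)),
    fun x _ => hnorm (h.Q_norm x.2), ?_, ?_, ?_, ?_, ?_, ?_⟩
  · ext x
    constructor
    · rintro ⟨y, hy, rfl⟩
      refine mem_subgroupOf.2 (h.Z_eq.le ⟨⟨_, mem_subgroupOf.1 y.2⟩, mem_center_iff.2 fun u =>
        Subtype.ext ?_, rfl⟩)
      exact congrArg (fun w : ↥(inC Z Q) => ((w : ↥C) : G))
        (mem_center_iff.1 hy ⟨⟨u, hQC u.2⟩, mem_subgroupOf.2 u.2⟩)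
    · intro hx
      refine ⟨⟨x, mem_subgroupOf.2 (hZQ (mem_subgroupOf.1 hx))⟩, mem_center_iff.2 fun u => ?_, rfl⟩
      exact Subtype.ext (Subtype.ext (mem_centralizer_iff.1 (hQC (mem_subgroupOf.1 u.2)) _ (mem_subgroupOf.1 hx)).symm)
  · rw [commutator_le]
    intro x hx y hy
    rw [mem_subgroupOf]
    simpa [commutatorElement_def] using hmem (mem_subgroupOf.1 hx) (mem_subgroupOf.1 hy)
  · intro x hx y hy
    refine Subtype.ext ?_
    simpa [commutatorElement_def] using h.cube _ (mem_subgroupOf.1 hx) _ (mem_subgroupOf.1 hy)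
  · ext x
    rw [hcent hQC, mem_subgroupOf, h.cent]
  · intro k _ x hx
    have : k * x * k⁻¹ = x := Subtype.ext (by
      rw [Subgroup.coe_mul, Subgroup.coe_mul, Subgroup.coe_inv,
        ← mem_centralizer_iff.1 k.2 _ (mem_subgroupOf.1 hx), mul_inv_cancel_right])
    rw [this]; exact hx
  · obtain ⟨L, hL, ⟨e⟩, hn⟩ := h.L
    refine ⟨inC Z L, fun x hx => (hcent hZC).2 (hL (mem_subgroupOf.1 hx)),
      ⟨(subgroupOfEquivOfLe hL).trans e⟩, fun x _ => ?_⟩
    rw [← subgroupOf_sup hQC hL]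
    exact hnorm (hn x.2)

/-- The frame inside `C(Z)` and what it says in `G`. -/
structure Frm (Z Q Q1 Q2 L1 L2 : Subgroup G) (t1 t2 : G) : Prop where
  base : Base Z Q Q1 Q2 L1 L2 t1 t2
  ext : Ext Z Q
  fr : ∃ s1 s2 : ↥(centralizer (Z : Set G)), (s1 : G) = t1 ∧ (s2 : G) = t2 ∧
    Frame (inC Z Z) (inC Z Q) (inC Z Q1) (inC Z Q2) (inC Z L1) (inC Z L2) s1 s2

/-- The statement's data give a frame. -/
theorem Core.exists_frm [Finite G] (h : Core Z Q) :
    ∃ (Q1 Q2 L1 L2 : Subgroup G) (t1 t2 : G), Frm Z Q Q1 Q2 L1 L2 t1 t2 := by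
  set C := centralizer (Z : Set G) with hC
  obtain ⟨A1, A2, B1, B2, s1, s2, F⟩ := Cfsg.Agent.UThreeLocal.exists_frame h.setting
  have hZQ : Z ≤ Q := h.Z_eq ▸ map_subtype_le _
  have hi : ∀ K : Subgroup ↥C, inC Z (K.map C.subtype) = K := fun K =>
    comap_map_eq_self_of_injective C.subtype_injective K
  have hcm : ∀ K : Subgroup ↥C, Nat.card ↥(K.map C.subtype) = Nat.card K := fun K =>
    card_map_of_injective C.subtype_injective
  have hm : ∀ {K : Subgroup G} {x : ↥C}, x ∈ inC Z K → (x : G) ∈ K := fun hx => mem_subgroupOf.1 hx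
  have hcube : ∀ x ∈ Q, x ^ 3 = 1 := fun x hx => by
    simpa using congrArg Subtype.val (F.cube ⟨x, h.Q_le hx⟩ hx)
  have hQ1 : A1.map C.subtype ≤ Q := by rintro _ ⟨x, hx, rfl⟩; exact hm (F.pair.le1 hx)
  have hQ2 : A2.map C.subtype ≤ Q := by rintro _ ⟨x, hx, rfl⟩; exact hm (F.pair.le2 hx)
  have hQnorm : normalizer (Z : Set G) ≤ normalizer (Q : Set G) := by
    intro g hg
    have hcent : ∀ c ∈ C, g⁻¹ * c * g ∈ C := by
      intro c hc
      refine mem_centralizer_iff.2 fun z hz => ?_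
      have := mem_centralizer_iff.1 hc _ ((mem_normalizer_iff.1 hg z).1 hz)
      calc z * (g⁻¹ * c * g) = g⁻¹ * ((g * z * g⁻¹) * c) * g := by group
        _ = g⁻¹ * c * g * z := by rw [this]; group
    have hcC : cj g Q ≤ C := fun x hx => mem_centralizer_iff.2 fun z hz => by
      have hz' : g⁻¹ * z * g ∈ Z := by simpa using (mem_normalizer_iff.1 (inv_mem hg) z).1 hz
      have := mem_centralizer_iff.1 (h.Q_le (mem_cj.1 hx)) _ hz'
      calc z * x = g * ((g⁻¹ * z * g) * (g⁻¹ * x * g)) * g⁻¹ := by group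
        _ = x * z := by rw [this]; group
    have hle : cj g Q ≤ Q := by
      intro x hx
      refine hm (F.le_Q_of_normal (P := inC Z (cj g Q)) ?_ (fun y _ => mem_centralizer_iff.2 fun z hz =>
        Subtype.ext (mem_centralizer_iff.1 y.2 _ (hm hz))) (fun c _ => ?_)
        (show (⟨x, hcC hx⟩ : ↥C) ∈ inC Z (cj g Q) from hx))
      · haveI : Fact (Nat.Prime 3) := ⟨Nat.prime_three⟩
        refine IsPGroup.of_card (n := 5) ?_
        rw [Nat.card_congr (subgroupOfEquivOfLe hcC).toEquiv, card_cj, h.Q_card]; norm_num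
      · refine mem_normalizer_iff.2 fun y => ?_
        simp only [mem_subgroupOf, Subgroup.coe_mul, Subgroup.coe_inv]
        have hc' : (c : G) ∈ normalizer ((cj g Q : Subgroup G) : Set G) := by
          rw [cj_normalizer, mem_cj]
          exact h.Q_norm (hcent _ c.2)
        exact mem_normalizer_iff.1 hc' _
    exact Subgroup.mem_normalizer_fintype fun x hx => hle (conj_mem_cj.2 hx)
  have hnm : ∀ {A B : Subgroup ↥C}, A ≤ normalizer (B : Set ↥C) →
      A.map C.subtype ≤ normalizer ((B.map C.subtype : Subgroup G) : Set G) := by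
    rintro A B hAB _ ⟨x, hx, rfl⟩
    exact le_normalizer_map C.subtype ⟨x, hAB hx, rfl⟩
  have hcn : ∀ {A B : Subgroup ↥C}, A ≤ centralizer (B : Set ↥C) →
      A.map C.subtype ≤ centralizer ((B.map C.subtype : Subgroup G) : Set G) := by
    rintro A B hAB _ ⟨x, hx, rfl⟩
    refine mem_centralizer_iff.2 ?_
    rintro _ ⟨y, hy, rfl⟩
    exact congrArg Subtype.val (mem_centralizer_iff.1 (hAB hx) y hy)
  have htr : ∀ {A B : Subgroup ↥C}, (∀ a ∈ A, a ∉ inC Z Z → ∀ b ∈ A, b ∉ inC Z Z →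
      ∃ l ∈ B, ∃ z ∈ inC Z Z, l * a * l⁻¹ * z = b) → ∀ a ∈ A.map C.subtype, a ∉ Z →
      ∀ b ∈ A.map C.subtype, b ∉ Z → ∃ l ∈ B.map C.subtype, ∃ z ∈ Z, l * a * l⁻¹ * z = b := by
    rintro A B hAB _ ⟨a, ha, rfl⟩ haZ _ ⟨b, hb, rfl⟩ hbZ
    obtain ⟨l, hl, z, hz, e⟩ := hAB a ha haZ b hb hbZ
    exact ⟨_, ⟨l, hl, rfl⟩, _, hm hz, by rw [← e]; rfl⟩
  refine ⟨A1.map C.subtype, A2.map C.subtype, B1.map C.subtype, B2.map C.subtype, s1, s2,
    ⟨⟨h.Z_card, h.Q_card, h.Q_le, h.Q_norm, h.Z_eq, h.derived, hcube, h.cent, hQ1, hQ2,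
      (hcm _).trans F.pair.card1, (hcm _).trans F.pair.card2, ?_, ?_, ?_, ?_, map_subtype_le _, map_subtype_le _,
      ?_, ?_, ?_, hcn F.L1_cent, hcn F.L2_cent, hnm F.L1_norm, hnm F.L2_norm, htr F.trans1, htr F.trans2,
      ⟨_, F.t1_mem, rfl⟩, ⟨_, F.t2_mem, rfl⟩, by rw [Subgroup.orderOf_coe, F.t1_two],
      by rw [Subgroup.orderOf_coe, F.t2_two], ?_, ?_, ?_⟩,
    ⟨h.Z_card, h.Q_card, h.Q_le, hQnorm, h.Z_eq, h.derived, hcube, h.cent⟩,
    s1, s2, rfl, rfl, by rw [hi, hi, hi, hi]; exact F⟩⟩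
  · intro z hz; exact ⟨⟨z, h.Q_le (hZQ hz)⟩, F.pair.Z1 hz, rfl⟩
  · intro z hz; exact ⟨⟨z, h.Q_le (hZQ hz)⟩, F.pair.Z2 hz, rfl⟩
  · rintro _ ⟨a, ha, rfl⟩ _ ⟨b, hb, rfl⟩; exact congrArg Subtype.val (F.pair.comm a ha b hb)
  · refine le_antisymm (sup_le hQ1 hQ2) fun x hx => ?_
    obtain ⟨a, ha, b, hb, e⟩ := F.pair.dec ⟨x, h.Q_le hx⟩ hx
    rw [show x = (a : G) * b from congrArg Subtype.val e]
    exact mul_mem (mem_sup_left ⟨a, ha, rfl⟩) (mem_sup_right ⟨b, hb, rfl⟩)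
  · obtain ⟨e⟩ := quat F
    exact ⟨(B1.equivMapOfInjective C.subtype C.subtype_injective).symm.trans e⟩
  · obtain ⟨e⟩ := quat F.symm
    exact ⟨(B2.equivMapOfInjective C.subtype C.subtype_injective).symm.trans e⟩
  · rintro _ ⟨a, ha, rfl⟩ _ ⟨b, hb, rfl⟩; exact congrArg Subtype.val (F.L_comm a ha b hb)
  · rintro _ ⟨x, hx, rfl⟩; exact hm (F.t1_inv x hx)
  · rintro _ ⟨x, hx, rfl⟩; exact hm (F.t2_inv x hx)
  · intro c hc
    have h1 := F.norm_L (show (⟨c, hc⟩ : ↥C) ∈ centralizer ((inC Z Z : Subgroup ↥C) : Set ↥C) from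
      mem_centralizer_iff.2 fun z hz => Subtype.ext (mem_centralizer_iff.1 hc _ (hm hz)))
    have h2 := le_normalizer_map C.subtype ⟨⟨c, hc⟩, h1, rfl⟩
    rwa [Subgroup.map_sup, Subgroup.map_sup, map_subgroupOf_eq_of_le h.Q_le] at h2

namespace Frm

variable (F : Frm Z Q Q1 Q2 L1 L2 t1 t2)
include F

theorem symm : Frm Z Q Q2 Q1 L2 L1 t2 t1 := by
  obtain ⟨b, e, s1, s2, e1, e2, f⟩ := F
  exact ⟨⟨b.Z_card, b.Q_card, b.Q_le, b.Q_norm, b.Z_eq, b.derived, b.cube, b.cent, b.le2, b.le1, b.card2, b.card1,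
    b.Z2, b.Z1, fun x hx y hy => (b.Q_comm y hy x hx).symm, by rw [sup_comm]; exact b.Q_prod, b.L2_le, b.L1_le,
    b.L2_quat, b.L1_quat, fun x hx y hy => (b.L_comm y hy x hx).symm, b.L2_cent, b.L1_cent, b.L2_norm, b.L1_norm,
    b.trans2, b.trans1, b.t2_mem, b.t1_mem, b.t2_two, b.t1_two, b.t2_inv, b.t1_inv,
    by rw [sup_comm L2 L1]; exact b.norm_L⟩, e, s2, s1, e2, e1, f.symm⟩

/-- An element of `Q₁` as an element of `C(Z)`. -/
theorem mem_C {x : G} (hx : x ∈ Q) : x ∈ centralizer (Z : Set G) := F.ext.Q_le hx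

theorem dec {x : G} (hx : x ∈ Q) : ∃ a ∈ Q1, ∃ b ∈ Q2, x = a * b := by
  obtain ⟨s1, s2, -, -, f⟩ := F.fr
  obtain ⟨a, ha, b, hb, e⟩ := f.pair.dec ⟨x, F.mem_C hx⟩ hx
  exact ⟨a, ha, b, hb, congrArg Subtype.val e⟩

theorem inf_eq [Finite G] : Q1 ⊓ Q2 = Z := by
  refine le_antisymm (fun x hx => F.ext.mem_Z_of_comm (F.base.le1 hx.1) fun y hy => ?_) (le_inf F.base.Z1 F.base.Z2)
  obtain ⟨a, ha, b, hb, rfl⟩ := F.dec hy
  rw [mul_assoc, ← F.base.Q_comm x hx.1 b hb, ← mul_assoc, F.base.Q_comm a ha x hx.2, mul_assoc]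

theorem exists_noncomm {a : G} (ha : a ∈ Q1) (haZ : a ∉ Z) : ∃ b ∈ Q1, a * b ≠ b * a := by
  by_contra hc
  push Not at hc
  refine haZ (F.ext.mem_Z_of_comm (F.base.le1 ha) fun y hy => ?_)
  obtain ⟨u, hu, v, hv, rfl⟩ := F.dec hy
  rw [mul_assoc, ← F.base.Q_comm a ha v hv, ← mul_assoc, ← hc u hu, mul_assoc]

theorem exists_notZ [Finite G] : ∃ a ∈ Q1, a ∉ Z := by
  by_contra hc
  push Not at hc
  have := Subgroup.card_le_of_le (show Q1 ≤ Z from hc)
  rw [F.base.card1, F.ext.Z_card] at this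
  omega

theorem Q_le_norm [Finite G] {K : Subgroup G} (hK : K ≤ Q) (hZK : Z ≤ K) : Q ≤ normalizer (K : Set G) :=
  fun q hq => Subgroup.mem_normalizer_fintype fun a ha => by
    show q * a * q⁻¹ ∈ K
    rw [show q * a * q⁻¹ = ⁅q, a⁆ * a by rw [commutatorElement_def]; group]
    exact mul_mem (hZK (F.ext.comm_mem hq (hK ha))) ha

theorem perm {c : G} (hc : c ∈ centralizer (Z : Set G)) :
    ((∀ x, x ∈ Q1 ↔ c * x * c⁻¹ ∈ Q1) ∧ ∀ x, x ∈ Q2 ↔ c * x * c⁻¹ ∈ Q2) ∨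
      ((∀ x, x ∈ Q1 ↔ c * x * c⁻¹ ∈ Q2) ∧ ∀ x, x ∈ Q2 ↔ c * x * c⁻¹ ∈ Q1) := by
  obtain ⟨s1, s2, -, -, f⟩ := F.fr
  have h := f.perm ⟨c, hc⟩ (mem_centralizer_iff.2 fun z hz => Subtype.ext (mem_centralizer_iff.1 hc _ hz))
  have key : ∀ {A B : Subgroup G}, A ≤ Q → B ≤ Q →
      (∀ x : ↥(centralizer (Z : Set G)), x ∈ inC Z A ↔ ⟨c, hc⟩ * x * (⟨c, hc⟩ : ↥(centralizer (Z : Set G)))⁻¹ ∈ inC Z B) →
      ∀ x, x ∈ A ↔ c * x * c⁻¹ ∈ B := by
    intro A B hA hB hAB x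
    constructor
    · intro hx; exact (hAB ⟨x, F.mem_C (hA hx)⟩).1 hx
    · intro hx
      have hxC : x ∈ centralizer (Z : Set G) := by
        have := mul_mem (mul_mem (inv_mem hc) (F.mem_C (hB hx))) hc
        rwa [show c⁻¹ * (c * x * c⁻¹) * c = x by group] at this
      exact (hAB ⟨x, hxC⟩).2 hx
  exact h.imp (fun h' => ⟨key F.base.le1 F.base.le1 h'.1, key F.base.le2 F.base.le2 h'.2⟩)
    fun h' => ⟨key F.base.le1 F.base.le2 h'.1, key F.base.le2 F.base.le1 h'.2⟩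

variable [Finite G]

theorem pgroup_inC {P : Subgroup G} (hP : IsPGroup 3 ↥P) (hPC : P ≤ centralizer (Z : Set G)) :
    IsPGroup 3 ↥(inC Z P) ∧ inC Z P ≤ centralizer ((inC Z Z : Subgroup _) : Set ↥(centralizer (Z : Set G))) :=
  ⟨hP.of_equiv (subgroupOfEquivOfLe hPC).symm,
    fun c _ => mem_centralizer_iff.2 fun z hz => Subtype.ext (mem_centralizer_iff.1 c.2 _ hz)⟩

omit [Finite G] in
theorem triv_iff {R : Subgroup G} (hR : R ≤ Q) (c : ↥(centralizer (Z : Set G))) :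
    Triv (inC Z Z) (inC Z R) c ↔ Triv Z R (c : G) :=
  ⟨fun h x hx => h ⟨x, F.mem_C (hR hx)⟩ hx, fun h x hx => h (x : G) hx⟩

theorem normal_of_three {c : G} {k : ℕ} (hc : c ∈ centralizer (Z : Set G)) (hk : c ^ 3 ^ k = 1) :
    (∀ x, x ∈ Q1 ↔ c * x * c⁻¹ ∈ Q1) ∧ ∀ x, x ∈ Q2 ↔ c * x * c⁻¹ ∈ Q2 := by
  refine (F.perm hc).resolve_right fun ⟨h1, h2⟩ => ?_
  obtain ⟨s1, s2, -, -, f⟩ := F.fr
  obtain ⟨a, ha, haZ⟩ := F.exists_notZ
  have h := (f.normal_of_three (c := ⟨c, hc⟩) (k := k)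
    (mem_centralizer_iff.2 fun z hz => Subtype.ext (mem_centralizer_iff.1 hc _ hz)) (Subtype.ext (by simpa using hk))).1
  have h1' : c * a * c⁻¹ ∈ Q1 := (h ⟨a, F.mem_C (F.base.le1 ha)⟩).1 ha
  have hz : c * a * c⁻¹ ∈ Z := F.inf_eq.le ⟨h1', (h1 a).1 ha⟩
  have e := F.ext.conj_Z (inv_mem hc) hz
  rw [show c⁻¹ * (c * a * c⁻¹) * c⁻¹⁻¹ = a by group] at e
  exact haZ (e ▸ hz)

theorem conj_mem1 {P : Subgroup G} (hP : IsPGroup 3 ↥P) (hPC : P ≤ centralizer (Z : Set G)) {c x : G}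
    (hc : c ∈ P) (hx : x ∈ Q1) : c * x * c⁻¹ ∈ Q1 := by
  obtain ⟨k, hk⟩ := hP ⟨c, hc⟩
  exact ((F.normal_of_three (hPC hc) (k := k) (by simpa using congrArg Subtype.val hk)).1 x).1 hx

omit [Finite G] in
theorem triv_Q {q : G} (hq : q ∈ Q) {R : Subgroup G} (hR : R ≤ Q) : Triv Z R q := fun x hx => by
  rw [show x⁻¹ * (q * x * q⁻¹) = ⁅x⁻¹, q⁆ by rw [commutatorElement_def]; group]
  exact F.ext.comm_mem (inv_mem (hR hx)) hq

theorem mem_Q_of_triv {c : G} (hc : c ∈ centralizer (Z : Set G)) (h1 : Triv Z Q1 c) (h2 : Triv Z Q2 c) : c ∈ Q := by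
  obtain ⟨s1, s2, -, -, f⟩ := F.fr
  exact f.mem_Q_of_triv (c := ⟨c, hc⟩) (mem_centralizer_iff.2 fun z hz => Subtype.ext (mem_centralizer_iff.1 hc _ hz))
    ((F.triv_iff F.base.le1 _).2 h1) ((F.triv_iff F.base.le2 _).2 h2)

theorem exists_char {P : Subgroup G} (hP : IsPGroup 3 ↥P) (hPC : P ≤ centralizer (Z : Set G)) :
    ∃ χ : ↥P →* Multiplicative (ZMod 3), ∀ c : ↥P, χ c = 1 ↔ Triv Z Q1 (c : G) := by
  obtain ⟨s1, s2, -, -, f⟩ := F.fr
  obtain ⟨h1, h2⟩ := F.pgroup_inC hP hPC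
  obtain ⟨χ, hχ⟩ := f.exists_char h1 h2
  exact ⟨χ.comp (subgroupOfEquivOfLe hPC).symm.toMonoidHom, fun c =>
    (hχ ((subgroupOfEquivOfLe hPC).symm c)).trans (F.triv_iff F.base.le1 _)⟩

theorem comm_mem_Q {P : Subgroup G} (hP : IsPGroup 3 ↥P) (hPC : P ≤ centralizer (Z : Set G)) {c d : G}
    (hc : c ∈ P) (hd : d ∈ P) : ⁅c, d⁆ ∈ Q := by
  obtain ⟨s1, s2, -, -, f⟩ := F.fr
  obtain ⟨h1, h2⟩ := F.pgroup_inC hP hPC
  exact f.comm_mem_Q h1 h2 (c := ⟨c, hPC hc⟩) (d := ⟨d, hPC hd⟩) hc hd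

/-- The elements commuting with `a ∈ Q₁ - Z`. -/
theorem cent_eq {a : G} (ha : a ∈ Q1) (haZ : a ∉ Z) : Q1 ⊓ centralizer ({a} : Set G) = Z ⊔ zpowers a := by
  obtain ⟨s1, s2, -, -, f⟩ := F.fr
  set a' : ↥(centralizer (Z : Set G)) := ⟨a, F.mem_C (F.base.le1 ha)⟩
  have h := congrArg (fun K => K.map (centralizer (Z : Set G)).subtype) (f.pair.cent_eq f.set (a := a') ha haZ)
  have hm : ∀ {K : Subgroup G}, K ≤ Q → (inC Z K).map (centralizer (Z : Set G)).subtype = K := fun hK =>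
    map_subgroupOf_eq_of_le (hK.trans F.ext.Q_le)
  rw [Subgroup.map_sup, hm F.ext.Z_le, MonoidHom.map_zpowers] at h
  refine Eq.trans ?_ h
  ext x
  constructor
  · rintro ⟨hx1, hx2⟩
    exact ⟨⟨x, F.mem_C (F.base.le1 hx1)⟩, ⟨hx1, mem_centralizer_singleton_iff.2
      (Subtype.ext (mem_centralizer_singleton_iff.1 hx2))⟩, rfl⟩
  · rintro ⟨x, ⟨hx1, hx2⟩, rfl⟩
    exact ⟨hx1, mem_centralizer_singleton_iff.2 (congrArg Subtype.val (mem_centralizer_singleton_iff.1 hx2))⟩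

/-- An element fixed modulo `Z` by a nontrivial member of a 3-group is the common flag of the group. -/
theorem flag_common {P : Subgroup G} (hP : IsPGroup 3 ↥P) (hPC : P ≤ centralizer (Z : Set G)) {u a : G}
    (huP : u ∈ P) (hu : ¬ Triv Z Q1 u) (ha : a ∈ Q1) (haZ : a ∉ Z) (huf : a⁻¹ * (u * a * u⁻¹) ∈ Z) :
    ∀ c ∈ P, a⁻¹ * (c * a * c⁻¹) ∈ Z ∧ ∀ x ∈ Q1, x⁻¹ * (c * x * c⁻¹) ∈ Z ⊔ zpowers a := by
  obtain ⟨s1, s2, -, -, f⟩ := F.fr
  obtain ⟨h1, h2⟩ := F.pgroup_inC hP hPC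
  obtain ⟨a0, hf⟩ := f.exists_flag' h1 h2
  set a' : ↥(centralizer (Z : Set G)) := ⟨a, F.mem_C (F.base.le1 ha)⟩
  set u' : ↥(centralizer (Z : Set G)) := ⟨u, hPC huP⟩
  have hm := f.mem_flag hf (y := u') huP (h2 huP) (fun e => hu ((F.triv_iff F.base.le1 u').1 e)) (u := a') ha huf
  have hle : inC Z Z ⊔ zpowers a' ≤ inC Z Z ⊔ zpowers a0 := sup_le le_sup_left (zpowers_le.2 hm)
  have heq : inC Z Z ⊔ zpowers a' = inC Z Z ⊔ zpowers a0 := Subgroup.eq_of_le_of_card_ge hle (by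
    have hf' : Flag (inC Z Z) (inC Z Q1) (⊥ : Subgroup ↥(centralizer (Z : Set G))) a' :=
      ⟨ha, haZ, fun c hc => by rw [mem_bot.1 hc]; simp, fun c hc x _ => by rw [mem_bot.1 hc]; simp⟩
    rw [f.card_flag hf, f.card_flag hf'])
  intro c hc
  set c' : ↥(centralizer (Z : Set G)) := ⟨c, hPC hc⟩
  refine ⟨?_, fun x hx => ?_⟩
  · have hM : inC Z Z ⊔ zpowers a0 ≤ f.set.Mt c' (h2 hc) := sup_le
      (fun z hz => ⟨f.set.Z_le hz, by rw [f.set.conj_Z (h2 hc) hz, inv_mul_cancel]; exact one_mem _⟩)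
      (zpowers_le.2 ⟨f.pair.le1 hf.mem, hf.fix c' hc⟩)
    exact (hM hm).2
  · have h3 := hf.move c' hc ⟨x, F.mem_C (F.base.le1 hx)⟩ hx
    rw [← heq] at h3
    have h4 := mem_map_of_mem (centralizer (Z : Set G)).subtype h3
    rw [Subgroup.map_sup, map_subgroupOf_eq_of_le (F.ext.Z_le.trans F.ext.Q_le), MonoidHom.map_zpowers] at h4
    exact h4

/-- No signalizer of a subgroup of `Q` that is its own centralizer in `Q`. -/
theorem signal_base {K W : Subgroup G} (hKC : K ≤ centralizer (Z : Set G)) (hK : (Nat.card ↥K).Coprime 3)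
    (hWQ : W ≤ Q) (hW : ∀ x ∈ Q, (∀ w ∈ W, x * w = w * x) → x ∈ W) (hN : W ≤ normalizer (K : Set G)) : K = ⊥ := by
  obtain ⟨s1, s2, -, -, f⟩ := F.fr
  have h := f.set.signal_base (K := inC Z K) (W := inC Z W)
    (fun c _ => mem_centralizer_iff.2 fun z hz => Subtype.ext (mem_centralizer_iff.1 c.2 _ hz))
    (by rw [Nat.card_congr (subgroupOfEquivOfLe hKC).toEquiv]; exact hK) (fun x hx => hWQ hx)
    (fun x hx hc => hW x hx fun w hw => congrArg Subtype.val (hc ⟨w, F.mem_C (hWQ hw)⟩ hw))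
    fun w hw => mem_normalizer_iff.2 fun k => mem_normalizer_iff.1 (hN hw) k
  exact eq_bot_iff.2 fun k hk => mem_bot.2 (congrArg Subtype.val (mem_bot.1 (h.le (show (⟨k, hKC hk⟩ : ↥(centralizer (Z : Set G))) ∈ inC Z K from hk))))

end Frm

end Cfsg.Agent.FFourLocal
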