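import Cfsg.Agent.Lib.FFourLocal.Loc.Signal

/-!
# The 3-local data from the statement's hypotheses
-/

set_option autoImplicit false
set_option linter.unusedSectionVars false
set_option linter.style.haveILetI false

namespace Cfsg.Agent.FFourLocal

open Subgroup
open Cfsg.Agent.UThreeLocal (cj mem_cj conj_mem_cj zpowers_eq_of_prime QQ)

universe u

variable {G : Type u} [Group G] [Finite G] {Z Q Q1 Q2 L1 L2 : Subgroup G} {t1 t2 g0 x : G}

/-- A point gives the local data. -/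
theorem Frm.exists_local (F : Frm Z Q Q1 Q2 L1 L2 t1 t2) (h : Pt Z Q g0 x) :
    ∃ (E : Subgroup G) (z y a b : G), Local Z Q Q1 Q2 L1 L2 E t1 t2 z y a b := by
  obtain ⟨g0, x, a, b, w, c⟩ := F.exists_cfg h
  obtain ⟨g, z, s⟩ := c.exists_swp F
  have hE := c.E_eq F s
  refine ⟨Z ⊔ zpowers a ⊔ zpowers b ⊔ zpowers w, z, g * a * g⁻¹, a, b, F.base,
    fun P hP hPC => c.dg.small F c.pt hP hPC, s.z_mem, s.z_ne, c.dg.ha, c.dg.haZ, c.dg.hb, c.dg.hbZ,
    (c.y_Wp F s).2, c.y_not F s, c.y_cube F s, c.y_comm F s (mem_sup_left (mem_sup_right (mem_zpowers a))),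
    c.y_comm F s (mem_sup_right (mem_zpowers b)), c.y_t1 F s, c.y_t2 F s, c.t1_a, c.t2_b, ?_, c.card_E F,
    c.E_comm F, c.E_exp F, ⟨g, rfl, c.gb F s, c.gga F s, c.ggb F s⟩, fun K hK hN => c.sig F s hK hN,
    fun d hd => c.cls F s hd, ?_, ?_⟩
  · rw [F.ext.zpowers_eq s.z_mem s.z_ne, hE]
  · have := (c.y_nontriv F s).1
    simp only [UThreeLocal.Triv, not_forall, exists_prop] at this
    exact this
  · have := (c.y_nontriv F s).2
    simp only [UThreeLocal.Triv, not_forall, exists_prop] at this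
    exact this

/-- The hypotheses of the `F₄(2)` statement give the local data. -/
theorem exists_local (Z : Subgroup G) (hZ3 : Nat.card ↥Z = 3)
    (hQ : Cfsg.IsExtraspecial 3 ↥(Cfsg.generalizedFittingSubgroup ↥(centralizer (Z : Set G))))
    (hQord : Nat.card ↥(Cfsg.generalizedFittingSubgroup ↥(centralizer (Z : Set G))) = 3 ^ 5)
    (hZQ : center ↥(Cfsg.generalizedFittingSubgroup ↥(centralizer (Z : Set G))) =
      (center ↥(centralizer (Z : Set G))).subgroupOf (Cfsg.generalizedFittingSubgroup ↥(centralizer (Z : Set G))))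
    (hN : ∃ _ : (Cfsg.generalizedFittingSubgroup ↥(centralizer (Z : Set G))).Normal,
      ∃ N : Subgroup (↥(centralizer (Z : Set G)) ⧸ Cfsg.generalizedFittingSubgroup ↥(centralizer (Z : Set G))),
        N.Normal ∧ Nonempty (↥N ≃* QuaternionGroup 2 × QuaternionGroup 2))
    (hnwc : ∃ g : G, Z.map (MulAut.conj g).toMonoidHom ≠ Z ∧ Z.map (MulAut.conj g).toMonoidHom ≤
      (Cfsg.generalizedFittingSubgroup ↥(centralizer (Z : Set G))).map (centralizer (Z : Set G)).subtype) :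
    ∃ (Q Q1 Q2 L1 L2 E : Subgroup G) (t1 t2 z y a b : G), Local Z Q Q1 Q2 L1 L2 E t1 t2 z y a b := by
  have hc := exists_core Z (centralizer (Z : Set G)) hZ3 rfl hQ hQord hZQ hN
  obtain ⟨Q1, Q2, L1, L2, t1, t2, F⟩ := hc.exists_frm
  obtain ⟨g, hne, hle⟩ := hnwc
  obtain ⟨z, hz, hz1⟩ := F.ext.exists_gen
  have hx : g * z * g⁻¹ ∈ cj g Z := conj_mem_cj.2 hz
  have hx1 : g * z * g⁻¹ ≠ 1 := fun e => hz1 (conj_eq_one_iff.1 e)
  have hpt : Pt Z ((Cfsg.generalizedFittingSubgroup ↥(centralizer (Z : Set G))).map (centralizer (Z : Set G)).subtype)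
      g (g * z * g⁻¹) := by
    refine ⟨hx, hle hx, fun hZm => hne ?_⟩
    rw [← zpowers_eq_of_prime hZ3 hz hz1, MonoidHom.map_zpowers]
    simp only [MulEquiv.coe_toMonoidHom, MulAut.conj_apply]
    rw [zpowers_eq_of_prime hZ3 hZm hx1, zpowers_eq_of_prime hZ3 hz hz1]
  obtain ⟨E, z', y, a, b, hl⟩ := F.exists_local hpt
  exact ⟨_, Q1, Q2, L1, L2, E, t1, t2, z', y, a, b, hl⟩

end Cfsg.Agent.FFourLocal
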