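import Cfsg.Agent.Lib.FFourLocal.Loc.Hyp

/-!
# A point of `Q` outside `Z`
-/

set_option autoImplicit false
set_option linter.unusedSectionVars false
set_option linter.style.haveILetI false

namespace Cfsg.Agent.FFourLocal

open Subgroup
open Cfsg.Agent.UThreeLocal (cj mem_cj conj_mem_cj card_cj cj_centralizer cj_normalizer Fx mem_Fx Triv
  zpowers_eq_of_prime card_sup_mul_inf shift_mul shift_mul_right)
open scoped commutatorElement

universe u

variable {G : Type u} [Group G] [Finite G] {Z Q Q1 Q2 L1 L2 : Subgroup G} {t1 t2 g0 x : G}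

namespace Frm

variable (F : Frm Z Q Q1 Q2 L1 L2 t1 t2)
include F

/-- The product of two trivial elements is trivial. -/
theorem triv_mul {R : Subgroup G} {g k : G} (hg : g ∈ centralizer (Z : Set G)) (h1 : Triv Z R g)
    (h2 : Triv Z R k) : Triv Z R (g * k) := fun y hy => by
  rw [shift_mul, F.ext.conj_Z hg (h2 y hy)]
  exact mul_mem (h1 y hy) (h2 y hy)

/-- The shift of a product `vw`, `v ∈ Q1`, `w ∈ Q2`. -/
theorem shift_dec {c v w : G} (hN : c * v * c⁻¹ ∈ Q1) (hv : v ∈ Q1) (hw : w ∈ Q2) :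
    (v * w)⁻¹ * (c * (v * w) * c⁻¹) = (v⁻¹ * (c * v * c⁻¹)) * (w⁻¹ * (c * w * c⁻¹)) := by
  rw [shift_mul_right, mul_assoc w⁻¹, F.base.Q_comm _ (mul_mem (inv_mem hv) hN) w hw, inv_mul_cancel_left]

/-- Two noncommuting elements of `Q1` generate it with `Z`. -/
theorem gen_Q1 {a a' : G} (ha : a ∈ Q1) (haZ : a ∉ Z) (ha' : a' ∈ Q1) (hab : a * a' ≠ a' * a) :
    Z ⊔ zpowers a ⊔ zpowers a' = Q1 := by
  have haQ := F.base.le1 ha
  have hA : Z ⊔ zpowers a ≤ Q1 := sup_le F.base.Z1 (zpowers_le.2 ha)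
  have hn : a' ∉ Z ⊔ zpowers a := fun e => by
    rw [← F.cent_eq ha haZ] at e
    exact hab (mem_centralizer_singleton_iff.1 e.2).symm
  refine Subgroup.eq_of_le_of_card_ge (sup_le hA (zpowers_le.2 ha')) ?_
  rw [F.base.card1, card_step (F.Q_le_norm (hA.trans F.base.le1) le_sup_left (F.base.le1 ha'))
    (F.base.cube a' (F.base.le1 ha')) hn,
    card_step (normalizes_of_comm fun z hz => F.ext.comm_Z haQ hz) (F.base.cube a haQ) haZ, F.base.Z_card]

/-- An element fixing two noncommuting elements of `Q1` modulo `Z` is trivial on `Q1/Z`. -/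
theorem triv_of_two {c a a' : G} (hc : c ∈ centralizer (Z : Set G)) (ha : a ∈ Q1) (haZ : a ∉ Z) (ha' : a' ∈ Q1)
    (hab : a * a' ≠ a' * a) (h1 : a⁻¹ * (c * a * c⁻¹) ∈ Z) (h2 : a'⁻¹ * (c * a' * c⁻¹) ∈ Z) : Triv Z Q1 c := by
  let M : Subgroup G :=
    { carrier := {u | u ∈ Q ∧ u⁻¹ * (c * u * c⁻¹) ∈ Z}
      one_mem' := ⟨one_mem _, by simp⟩
      mul_mem' := by
        rintro u w ⟨huQ, hu⟩ ⟨hwQ, hw⟩
        refine ⟨mul_mem huQ hwQ, ?_⟩
        rw [shift_mul_right, mul_assoc w⁻¹, F.ext.comm_Z hwQ hu, inv_mul_cancel_left]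
        exact mul_mem hu hw
      inv_mem' := by
        rintro u ⟨huQ, hu⟩
        refine ⟨inv_mem huQ, ?_⟩
        rw [show u⁻¹⁻¹ * (c * u⁻¹ * c⁻¹) = u * (u⁻¹ * (c * u * c⁻¹))⁻¹ * u⁻¹ by group,
          ← F.ext.comm_Z huQ (inv_mem hu), mul_inv_cancel_right]
        exact inv_mem hu }
  have hle : Z ⊔ zpowers a ⊔ zpowers a' ≤ M := sup_le (sup_le
    (fun z hz => ⟨F.ext.Z_le hz, by rw [F.ext.conj_Z hc hz, inv_mul_cancel]; exact one_mem _⟩)
    (zpowers_le.2 ⟨F.base.le1 ha, h1⟩)) (zpowers_le.2 ⟨F.base.le1 ha', h2⟩)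
  intro y hy
  rw [← F.gen_Q1 ha haZ ha' hab] at hy
  exact (hle hy).2

end Frm

/-- `x ∈ Q - Z` is conjugate to an element of `Z`. -/
structure Pt (Z Q : Subgroup G) (g0 x : G) : Prop where
  mem : x ∈ cj g0 Z
  memQ : x ∈ Q
  notZ : x ∉ Z

/-- The elements of the other radical centralising `Z`. -/
abbrev Wp (Z Q : Subgroup G) (g0 : G) : Subgroup G := cj g0 Q ⊓ centralizer (Z : Set G)

namespace Pt

variable (F : Frm Z Q Q1 Q2 L1 L2 t1 t2) (h : Pt Z Q g0 x)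
include F h

theorem ne_one : x ≠ 1 := fun e => h.notZ (e ▸ one_mem Z)

theorem ext' : Ext (cj g0 Z) (cj g0 Q) := F.ext.conj g0

theorem zp : zpowers x = cj g0 Z := (h.ext' F).zpowers_eq h.mem (h.ne_one F)

theorem inter_bot {y : G} (hy : y ∈ Z) (hy' : y ∈ cj g0 Z) : y = 1 := by
  by_contra hne
  refine h.notZ ?_
  have := h.mem
  rw [← (h.ext' F).zpowers_eq hy' hne, F.ext.zpowers_eq hy hne] at this
  exact this

theorem inter_Q1 (hx1 : x ∉ Q1) {y : G} (hy : y ∈ Q1) (hy' : y ∈ cj g0 Z) : y = 1 := by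
  by_contra hne
  refine hx1 ?_
  have := h.mem
  rw [← (h.ext' F).zpowers_eq hy' hne] at this
  exact zpowers_le.2 hy this

/-- An element commuting with `x` centralises `cj g0 Z`. -/
theorem mem_cent' {c : G} (hc : c * x = x * c) : c ∈ centralizer ((cj g0 Z : Subgroup G) : Set G) :=
  (h.ext' F).mem_cent h.mem (h.ne_one F) hc

theorem Z_le' : Z ≤ cj g0 Q := by
  have h81 := F.ext.card_Fx h.memQ h.notZ
  obtain ⟨u, hu, v, hv, huv⟩ : ∃ u ∈ Fx Q x, ∃ v ∈ Fx Q x, u * v ≠ v * u := by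
    by_contra hc
    push Not at hc
    exact absurd (F.ext.abelian_le inf_le_left hc) (by rw [show Nat.card ↥(Fx Q x) = 81 from h81]; omega)
  have hWC : cj g0⁻¹ (Fx Q x) ≤ centralizer (Z : Set G) := fun c hc => by
    rw [mem_cj, inv_inv] at hc
    have h1 := h.mem_cent' F (mem_centralizer_singleton_iff.1 (mem_inf.1 hc).2)
    rw [cj_centralizer, mem_cj] at h1
    simpa [mul_assoc] using h1
  have hWP : IsPGroup 3 ↥(cj g0⁻¹ (Fx Q x)) :=
    ((F.ext.pgroup.to_le inf_le_left).of_equiv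
      ((Fx Q x).equivMapOfInjective _ (MulAut.conj g0⁻¹).injective))
  have h1 := F.comm_mem_Q hWP hWC (c := g0⁻¹ * u * g0) (d := g0⁻¹ * v * g0)
    (by rw [mem_cj, inv_inv]; simpa [mul_assoc] using hu) (by rw [mem_cj, inv_inv]; simpa [mul_assoc] using hv)
  have h2 : ⁅u, v⁆ ∈ cj g0 Q := by
    rw [mem_cj]
    convert h1 using 1
    simp only [commutatorElement_def]; group
  rw [← F.ext.zpowers_eq (F.ext.comm_mem (mem_inf.1 hu).1 (mem_inf.1 hv).1)
    (fun e => huv (commutatorElement_eq_one_iff_mul_comm.1 e))]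
  exact zpowers_le.2 h2

theorem Z_le_D : Z ≤ Q ⊓ cj g0 Q := le_inf F.ext.Z_le (h.Z_le' F)

theorem x_mem_D : x ∈ Q ⊓ cj g0 Q := ⟨h.memQ, (h.ext' F).Z_le h.mem⟩

theorem D_comm : ∀ u ∈ Q ⊓ cj g0 Q, ∀ v ∈ Q ⊓ cj g0 Q, u * v = v * u := fun _ hu _ hv =>
  commutatorElement_eq_one_iff_mul_comm.1
    (h.inter_bot F (F.ext.comm_mem hu.1 hv.1) ((h.ext' F).comm_mem hu.2 hv.2))

theorem D_le_Wp : Q ⊓ cj g0 Q ≤ Wp Z Q g0 := le_inf inf_le_right (inf_le_left.trans F.ext.Q_le)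

theorem card_Wp : Nat.card ↥(Wp Z Q g0) = 81 := by
  obtain ⟨z, hz, hz1⟩ := F.ext.exists_gen
  have e : Wp Z Q g0 = Fx (cj g0 Q) z := by
    ext c
    refine ⟨fun hc => ⟨hc.1, mem_centralizer_singleton_iff.2 (mem_centralizer_iff.1 hc.2 z hz).symm⟩,
      fun hc => ⟨hc.1, F.ext.mem_cent hz hz1 (mem_centralizer_singleton_iff.1 hc.2)⟩⟩
  rw [e, (h.ext' F).card_Fx (h.Z_le' F hz) fun e => hz1 (h.inter_bot F hz e)]

theorem Wp_pgroup : IsPGroup 3 ↥(Wp Z Q g0) := (h.ext' F).pgroup.to_le inf_le_left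

theorem Wp_comm_x {c : G} (hc : c ∈ Wp Z Q g0) : c * x = x * c := ((h.ext' F).comm_Z hc.1 h.mem).symm

/-- An element of `Wp` trivial on both factors lies in `Q`. -/
theorem mem_D_of_triv {c : G} (hc : c ∈ Wp Z Q g0) (h1 : Triv Z Q1 c) (h2 : Triv Z Q2 c) :
    c ∈ Q ⊓ cj g0 Q :=
  ⟨F.mem_Q_of_triv hc.2 h1 h2, hc.1⟩

/-- The index of `D` in `Wp` is at most nine, and at most three when one character is trivial. -/
theorem card_chars : Nat.card ↥(Wp Z Q g0) ≤ 9 * Nat.card ↥(Q ⊓ cj g0 Q : Subgroup G) ∧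
    ((∀ c ∈ Wp Z Q g0, Triv Z Q2 c → Triv Z Q1 c) →
      Nat.card ↥(Wp Z Q g0) ≤ 3 * Nat.card ↥(Q ⊓ cj g0 Q : Subgroup G)) := by
  obtain ⟨χ, hχ⟩ := F.exists_char (h.Wp_pgroup F) inf_le_right
  obtain ⟨ψ, hψ⟩ := F.symm.exists_char (h.Wp_pgroup F) inf_le_right
  constructor
  · have hk : (χ.prod ψ).ker.map (Wp Z Q g0).subtype ≤ Q ⊓ cj g0 Q := by
      rintro _ ⟨y, hy, rfl⟩
      rw [SetLike.mem_coe, MonoidHom.mem_ker, MonoidHom.prod_apply, Prod.mk_eq_one] at hy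
      exact h.mem_D_of_triv F y.2 ((hχ y).1 hy.1) ((hψ y).1 hy.2)
    have h1 := Subgroup.card_le_of_le hk
    rw [card_map_of_injective (Wp Z Q g0).subtype_injective] at h1
    have h2 : (χ.prod ψ).ker.index ≤ 9 := by
      rw [index_ker]
      have := Nat.le_of_dvd Nat.card_pos (card_subgroup_dvd_card (χ.prod ψ).range)
      rw [Nat.card_prod] at this
      simpa using this
    rw [← (χ.prod ψ).ker.card_mul_index, mul_comm]
    exact Nat.mul_le_mul h2 h1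
  · intro himp
    have hk : ψ.ker.map (Wp Z Q g0).subtype ≤ Q ⊓ cj g0 Q := by
      rintro _ ⟨y, hy, rfl⟩
      exact h.mem_D_of_triv F y.2 (himp _ y.2 ((hψ y).1 hy)) ((hψ y).1 hy)
    have h1 := Subgroup.card_le_of_le hk
    rw [card_map_of_injective (Wp Z Q g0).subtype_injective] at h1
    have h2 : ψ.ker.index ≤ 3 := by
      rw [index_ker]
      have := Nat.le_of_dvd Nat.card_pos (card_subgroup_dvd_card ψ.range)
      simpa using this
    rw [← ψ.ker.card_mul_index, mul_comm]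
    exact Nat.mul_le_mul h2 h1

theorem card_D_cases : Nat.card ↥(Q ⊓ cj g0 Q : Subgroup G) = 9 ∨ Nat.card ↥(Q ⊓ cj g0 Q : Subgroup G) = 27 := by
  have h1 := (h.card_chars F).1
  rw [h.card_Wp F] at h1
  have h2 := F.ext.abelian_le inf_le_left (h.D_comm F)
  obtain ⟨k, -, ek⟩ := (Nat.dvd_prime_pow Nat.prime_three).1 (show Nat.card ↥(Q ⊓ cj g0 Q : Subgroup G) ∣ 3 ^ 5 by
    rw [show (3 : ℕ) ^ 5 = Nat.card Q by rw [F.ext.Q_card]; norm_num]
    exact card_dvd_of_le inf_le_left)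
  rw [ek] at h1 h2 ⊢
  have : k ≤ 3 := (Nat.pow_le_pow_iff_right (by norm_num : 1 < 3)).1 (by simpa using h2)
  interval_cases k <;> simp_all

theorem card_span : Nat.card ↥(Z ⊔ zpowers x) = 9 := by
  rw [card_step (normalizes_of_comm fun z hz => F.ext.comm_Z h.memQ hz) (F.ext.cube x h.memQ) h.notZ,
    F.ext.Z_card]

theorem D_eq_of_nine (h9 : Nat.card ↥(Q ⊓ cj g0 Q : Subgroup G) = 9) : Q ⊓ cj g0 Q = Z ⊔ zpowers x :=
  (Subgroup.eq_of_le_of_card_ge (sup_le (h.Z_le_D F) (zpowers_le.2 (h.x_mem_D F)))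
    (by rw [h9, h.card_span F])).symm

/-- Shifts of elements of `C_Q(x)` under `Wp` lie in `D`. -/
theorem shift_mem_D {c u : G} (hc : c ∈ Q) (hcx : c * x = x * c) (hu : u ∈ Wp Z Q g0) :
    c⁻¹ * (u * c * u⁻¹) ∈ Q ⊓ cj g0 Q := by
  refine mem_inf.2 ⟨mul_mem (inv_mem hc) (F.ext.conj_mem hu.2 hc), ?_⟩
  rw [show c⁻¹ * (u * c * u⁻¹) = (c⁻¹ * u * c) * u⁻¹ by group]
  refine mul_mem ?_ (inv_mem (mem_inf.1 hu).1)
  have := (h.ext' F).conj_mem (inv_mem (h.mem_cent' F hcx)) (mem_inf.1 hu).1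
  rwa [inv_inv] at this

/-- Shifts of elements of `D` under `Wp` lie in the other centre. -/
theorem shift_mem_Z' {d u : G} (hd : d ∈ cj g0 Q) (hu : u ∈ Wp Z Q g0) :
    d⁻¹ * (u * d * u⁻¹) ∈ cj g0 Z := by
  rw [show d⁻¹ * (u * d * u⁻¹) = ⁅d⁻¹, u⁆ by rw [commutatorElement_def]; group]
  exact (h.ext' F).comm_mem (inv_mem hd) hu.1

/-- `D` is not centralised by `Wp`. -/
theorem not_central (h27 : Nat.card ↥(Q ⊓ cj g0 Q : Subgroup G) = 27)
    (hc : ∀ u ∈ Wp Z Q g0, ∀ d ∈ Q ⊓ cj g0 Q, d * u = u * d) : False := by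
  have hle : Wp Z Q g0 ≤ Q ⊓ cj g0 Q := fun u hu =>
    (h.ext' F).cent_abelian inf_le_right (h.D_comm F) h27 hu.1 fun d hd => hc u hu d hd
  have := Subgroup.card_le_of_le hle
  rw [h.card_Wp F, h27] at this
  omega

/-- A point does not lie in a factor. -/
theorem not_Q1 : x ∉ Q1 := by
  intro hx1
  have hfix : ∀ u ∈ Wp Z Q g0, u ∈ normalizer (Q1 : Set G) ∧ u ∈ normalizer (Q2 : Set G) := fun u hu => by
    obtain ⟨k, hk⟩ := h.Wp_pgroup F ⟨u, hu⟩
    obtain ⟨n1, n2⟩ := F.normal_of_three hu.2 (k := k) (by simpa using congrArg Subtype.val hk)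
    exact ⟨mem_normalizer_iff.2 n1, mem_normalizer_iff.2 n2⟩
  rcases h.card_D_cases F with h9 | h27
  · have hno : ∀ c ∈ Wp Z Q g0, Triv Z Q2 c := by
      intro u hu c hc
      have hcQ := F.base.le2 hc
      have h1 := h.shift_mem_D F hcQ (F.base.Q_comm x hx1 c hc).symm hu
      rw [h.D_eq_of_nine F h9] at h1
      have h2 : c⁻¹ * (u * c * u⁻¹) ∈ Q2 := mul_mem (inv_mem hc) ((mem_normalizer_iff.1 (hfix u hu).2 c).1 hc)
      exact F.inf_eq.le ⟨sup_le F.base.Z1 (zpowers_le.2 hx1) h1, h2⟩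
    have := (h.card_chars F.symm).2 fun c hc _ => hno c hc
    rw [h.card_Wp F, h9] at this
    omega
  · refine h.not_central F h27 fun u hu d hd => ?_
    obtain ⟨a, ha, b, hb, rfl⟩ := F.dec hd.1
    have hdx := h.D_comm F _ hd _ (h.x_mem_D F)
    have hax : a * x = x * a := by
      rw [mul_assoc, ← F.base.Q_comm x hx1 b hb, ← mul_assoc, ← mul_assoc] at hdx
      exact mul_right_cancel hdx
    have haD : a ∈ Z ⊔ zpowers x := by
      rw [← F.cent_eq hx1 h.notZ]; exact ⟨ha, mem_centralizer_singleton_iff.2 hax⟩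
    have hau : a * u = u * a := by
      have : Z ⊔ zpowers x ≤ centralizer ({u} : Set G) := sup_le
        (fun z hz => mem_centralizer_singleton_iff.2 (mem_centralizer_iff.1 hu.2 z hz))
        (zpowers_le.2 (mem_centralizer_singleton_iff.2 (h.Wp_comm_x F hu).symm))
      exact mem_centralizer_singleton_iff.1 (this haD)
    have hbD : b ∈ Q ⊓ cj g0 Q := by
      have := mul_mem (inv_mem (sup_le (h.Z_le_D F) (zpowers_le.2 (h.x_mem_D F)) haD)) hd
      rwa [inv_mul_cancel_left] at this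
    have hbu : b * u = u * b := by
      have h1 := h.shift_mem_Z' F hbD.2 hu
      have h2 : b⁻¹ * (u * b * u⁻¹) ∈ Q2 := mul_mem (inv_mem hb) ((mem_normalizer_iff.1 (hfix u hu).2 b).1 hb)
      have h3 : b⁻¹ * (u * b * u⁻¹) = 1 := by
        by_contra hne
        have hx2 := h.mem
        rw [← (h.ext' F).zpowers_eq h1 hne] at hx2
        exact h.notZ (F.inf_eq.le ⟨hx1, zpowers_le.2 h2 hx2⟩)
      have e := inv_mul_eq_one.1 h3
      conv_lhs => rw [e, inv_mul_cancel_right]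
    rw [mul_assoc, hbu, ← mul_assoc, hau, mul_assoc]

end Pt

/-- `x = ab` with `a ∈ Q1 - Z` and `b ∈ Q2 - Z`. -/
structure Dg (Z Q1 Q2 : Subgroup G) (x a b : G) : Prop where
  ha : a ∈ Q1
  haZ : a ∉ Z
  hb : b ∈ Q2
  hbZ : b ∉ Z
  eq : x = a * b

namespace Dg

variable {a b : G} (F : Frm Z Q Q1 Q2 L1 L2 t1 t2) (h : Pt Z Q g0 x) (d : Dg Z Q1 Q2 x a b)

theorem symm (F : Frm Z Q Q1 Q2 L1 L2 t1 t2) (d : Dg Z Q1 Q2 x a b) : Dg Z Q2 Q1 x b a :=
  ⟨d.hb, d.hbZ, d.ha, d.haZ, d.eq.trans (F.base.Q_comm a d.ha b d.hb)⟩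

include F h d

theorem Q_a : a ∈ Q := F.base.le1 d.ha

/-- Every element of `Wp` fixes `a` modulo `Z`. -/
theorem fix1 {u : G} (hu : u ∈ Wp Z Q g0) : a⁻¹ * (u * a * u⁻¹) ∈ Z := by
  have hN : u * a * u⁻¹ ∈ Q1 := F.conj_mem1 (h.Wp_pgroup F) inf_le_right hu d.ha
  have hN2 : u * b * u⁻¹ ∈ Q2 := F.symm.conj_mem1 (h.Wp_pgroup F) inf_le_right hu d.hb
  have e := F.shift_dec hN d.ha d.hb
  rw [← d.eq, h.Wp_comm_x F hu, mul_inv_cancel_right, inv_mul_cancel] at e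
  refine F.inf_eq.le (mem_inf.2 ⟨mul_mem (inv_mem d.ha) hN, ?_⟩)
  rw [eq_inv_of_mul_eq_one_left e.symm]
  exact inv_mem (mul_mem (inv_mem d.hb) hN2)

theorem not_mem1 : x ∉ Q1 := h.not_Q1 F

theorem zpow_mem1 {z : G} (hz : z ∈ Z) {n : ℤ} (hn : z * x ^ n ∈ Q1) : z * x ^ n ∈ Z := by
  have h1 : x ^ n ∈ Q1 := ((Subgroup.mul_mem_cancel_left _ (F.base.Z1 hz)).1 hn)
  rw [zpow_eq_one_of_mem (F.ext.cube x h.memQ) (d.not_mem1 F h) h1, mul_one]
  exact hz

theorem nine_Q1 (h9 : Nat.card ↥(Q ⊓ cj g0 Q : Subgroup G) = 9) {q : G} (hq : q ∈ Q ⊓ cj g0 Q) (hq1 : q ∈ Q1) :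
    q ∈ Z := by
  rw [h.D_eq_of_nine F h9] at hq
  obtain ⟨z, hz, n, rfl⟩ := mem_sup_zpowers (normalizes_of_comm fun z hz => F.ext.comm_Z h.memQ hz) hq
  exact d.zpow_mem1 F h hz hq1

/-- An element of `C_Q(x)` with noncentral component. -/
theorem exists_comp : ∃ a' ∈ Q1, ∃ b' ∈ Q2, a * a' ≠ a' * a ∧ a' * b' * x = x * (a' * b') := by
  by_contra hc
  push Not at hc
  set K := Z ⊔ zpowers a ⊔ zpowers b with hK
  have haQ := F.base.le1 d.ha
  have hbQ := F.base.le2 d.hb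
  have hKc : ∀ u ∈ K, ∀ v ∈ K, u * v = v * u := by
    refine comm_step (comm_step (fun u hu v hv => (F.ext.comm_Z (F.ext.Z_le hu) hv).symm)
      (fun z hz => F.ext.comm_Z haQ hz)) fun u hu => ?_
    exact mem_centralizer_singleton_iff.1 ((sup_le (fun z hz => mem_centralizer_singleton_iff.2 (F.ext.comm_Z hbQ hz))
      (zpowers_le.2 (mem_centralizer_singleton_iff.2 (F.base.Q_comm a d.ha b d.hb))) :
        Z ⊔ zpowers a ≤ centralizer ({b} : Set G)) hu)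
  have hKQ : K ≤ Q := sup_le (sup_le F.ext.Z_le (zpowers_le.2 haQ)) (zpowers_le.2 hbQ)
  have hle : Fx Q x ≤ K := by
    intro c hcx
    obtain ⟨hcQ, hcx'⟩ := mem_inf.1 hcx
    obtain ⟨a', ha', b', hb', rfl⟩ := F.dec hcQ
    have hcomm := mem_centralizer_singleton_iff.1 hcx'
    have haa : a * a' = a' * a := by
      by_contra hne
      exact hc a' ha' b' hb' hne hcomm
    have haK : a' ∈ Z ⊔ zpowers a := by
      rw [← F.cent_eq d.ha d.haZ]; exact ⟨ha', mem_centralizer_singleton_iff.2 haa.symm⟩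
    have hbb : b * b' = b' * b := by
      rw [d.eq] at hcomm
      have e1 : a' * b' * (a * b) = a' * a * (b' * b) := by
        rw [mul_assoc a', ← mul_assoc b', ← F.base.Q_comm a d.ha b' hb']; group
      have e2 : a * b * (a' * b') = a * a' * (b * b') := by
        rw [mul_assoc a, ← mul_assoc b, ← F.base.Q_comm a' ha' b d.hb]; group
      rw [e1, e2, haa] at hcomm
      exact (mul_left_cancel hcomm).symm
    have hbK : b' ∈ Z ⊔ zpowers b := by
      rw [← F.symm.cent_eq d.hb d.hbZ]; exact ⟨hb', mem_centralizer_singleton_iff.2 hbb.symm⟩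
    exact mul_mem (mem_sup_left haK) ((sup_le (le_sup_left.trans le_sup_left) le_sup_right :
      Z ⊔ zpowers b ≤ K) hbK)
  have h1 := F.ext.abelian_le hKQ hKc
  have h2 := Subgroup.card_le_of_le hle
  rw [show Nat.card ↥(Fx Q x) = 81 from F.ext.card_Fx h.memQ h.notZ] at h2
  omega

/-- The intersection of the radicals has order 27. -/
theorem card_D : Nat.card ↥(Q ⊓ cj g0 Q : Subgroup G) = 27 := by
  refine (h.card_D_cases F).resolve_left fun h9 => ?_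
  obtain ⟨a', ha', b', hb', hab, hcx⟩ := d.exists_comp F h
  have hcQ : a' * b' ∈ Q := mul_mem (F.base.le1 ha') (F.base.le2 hb')
  have himp : ∀ u ∈ Wp Z Q g0, Triv Z Q2 u → Triv Z Q1 u := by
    intro u hu h2
    refine F.triv_of_two hu.2 d.ha d.haZ ha' hab (d.fix1 F h hu) ?_
    have hN : u * a' * u⁻¹ ∈ Q1 := F.conj_mem1 (h.Wp_pgroup F) inf_le_right hu ha'
    have h1 := h.shift_mem_D F hcQ hcx hu
    have e := F.shift_dec hN ha' hb'
    have hs1 : a'⁻¹ * (u * a' * u⁻¹) ∈ Q1 := mul_mem (inv_mem ha') hN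
    have h3 : (a' * b')⁻¹ * (u * (a' * b') * u⁻¹) ∈ Q1 := by
      rw [e]; exact mul_mem hs1 (F.base.Z1 (h2 b' hb'))
    have h4 := d.nine_Q1 F h h9 h1 h3
    rw [e] at h4
    exact (Subgroup.mul_mem_cancel_right Z (h2 b' hb')).1 h4
  have := (h.card_chars F).2 himp
  rw [h.card_Wp F, h9] at this
  omega

/-- An element of `D` with noncentral components. -/
theorem exists_d : ∃ a' ∈ Q1, ∃ b' ∈ Q2, a * a' ≠ a' * a ∧ a' * b' ∈ Q ⊓ cj g0 Q := by
  by_contra hc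
  push Not at hc
  have haQ := F.base.le1 d.ha
  have hbQ := F.base.le2 d.hb
  set K := Z ⊔ zpowers a ⊔ zpowers b with hK
  have hle : Q ⊓ cj g0 Q ≤ K := by
    intro c hcD
    obtain ⟨a', ha', b', hb', rfl⟩ := F.dec (mem_inf.1 hcD).1
    have haa : a * a' = a' * a := by
      by_contra hne
      exact hc a' ha' b' hb' hne hcD
    have hcomm := h.D_comm F _ hcD _ (h.x_mem_D F)
    have haK : a' ∈ Z ⊔ zpowers a := by
      rw [← F.cent_eq d.ha d.haZ]; exact ⟨ha', mem_centralizer_singleton_iff.2 haa.symm⟩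
    have hbb : b * b' = b' * b := by
      rw [d.eq] at hcomm
      have e1 : a' * b' * (a * b) = a' * a * (b' * b) := by
        rw [mul_assoc a', ← mul_assoc b', ← F.base.Q_comm a d.ha b' hb']; group
      have e2 : a * b * (a' * b') = a * a' * (b * b') := by
        rw [mul_assoc a, ← mul_assoc b, ← F.base.Q_comm a' ha' b d.hb]; group
      rw [e1, e2, haa] at hcomm
      exact (mul_left_cancel hcomm).symm
    have hbK : b' ∈ Z ⊔ zpowers b := by
      rw [← F.symm.cent_eq d.hb d.hbZ]; exact ⟨hb', mem_centralizer_singleton_iff.2 hbb.symm⟩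
    exact mul_mem (mem_sup_left haK) ((sup_le (le_sup_left.trans le_sup_left) le_sup_right :
      Z ⊔ zpowers b ≤ K) hbK)
  have hA : Nat.card ↥(Z ⊔ zpowers a) = 9 := by
    rw [card_step (normalizes_of_comm fun z hz => F.ext.comm_Z haQ hz) (F.base.cube a haQ) d.haZ, F.ext.Z_card]
  have hb_notA : b ∉ Z ⊔ zpowers a := fun e =>
    d.hbZ (F.inf_eq.le ⟨sup_le F.base.Z1 (zpowers_le.2 d.ha) e, d.hb⟩)
  have hK27 : Nat.card ↥K = 27 := by
    rw [hK, card_step (F.Q_le_norm (sup_le F.ext.Z_le (zpowers_le.2 haQ)) le_sup_left hbQ) (F.base.cube b hbQ) hb_notA,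
      hA]
  have heq := Subgroup.eq_of_le_of_card_ge hle (by rw [d.card_D F h, hK27])
  have haD : a ∈ Q ⊓ cj g0 Q := heq.ge (mem_sup_left (mem_sup_right (mem_zpowers a)))
  have hbD : b ∈ Q ⊓ cj g0 Q := heq.ge (mem_sup_right (mem_zpowers b))
  refine h.not_central F (d.card_D F h) fun u hu y hy => ?_
  have key : ∀ e ∈ Q ⊓ cj g0 Q, e⁻¹ * (u * e * u⁻¹) ∈ Z → e * u = u * e := fun e he hz => by
    have h1 := inv_mul_eq_one.1 (h.inter_bot F hz (h.shift_mem_Z' F he.2 hu))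
    conv_lhs => rw [h1, inv_mul_cancel_right]
  have hau := key a haD (d.fix1 F h hu)
  have hbu := key b hbD ((d.symm F).fix1 F.symm h hu)
  have hle2 : K ≤ centralizer ({u} : Set G) := sup_le (sup_le
    (fun z hz => mem_centralizer_singleton_iff.2 (mem_centralizer_iff.1 hu.2 z hz))
    (zpowers_le.2 (mem_centralizer_singleton_iff.2 hau))) (zpowers_le.2 (mem_centralizer_singleton_iff.2 hbu))
  exact mem_centralizer_singleton_iff.1 (hle2 (hle hy))

theorem D_Q1 {q : G} (hq : q ∈ Q ⊓ cj g0 Q) (hq1 : q ∈ Q1) : q ∈ Z := by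
  by_contra hqZ
  obtain ⟨a', ha', b', hb', hab, hd⟩ := d.exists_d F h
  have hqx := h.D_comm F q hq x (h.x_mem_D F)
  have hqa : q * a = a * q := by
    rw [d.eq, ← mul_assoc, mul_assoc a b q, ← F.base.Q_comm q hq1 b d.hb, ← mul_assoc] at hqx
    exact mul_right_cancel hqx
  have hqA : q ∈ Z ⊔ zpowers a := by
    rw [← F.cent_eq d.ha d.haZ]; exact ⟨hq1, mem_centralizer_singleton_iff.2 hqa⟩
  obtain ⟨z, hz, n, rfl⟩ :=
    mem_sup_zpowers (normalizes_of_comm fun z hz => F.ext.comm_Z (F.base.le1 d.ha) hz) hqA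
  have hqd := h.D_comm F _ hq _ hd
  have hna : (z * a ^ n) * a' = a' * (z * a ^ n) := by
    rw [← mul_assoc, mul_assoc a' b', ← F.base.Q_comm (z * a ^ n) hq1 b' hb', ← mul_assoc a'] at hqd
    exact mul_right_cancel hqd
  have hza : z * a' = a' * z := F.ext.comm_Z (F.base.le1 ha') hz
  have hn : a ^ n * a' = a' * a ^ n := by
    rw [mul_assoc, ← mul_assoc a', ← hza, mul_assoc] at hna
    exact mul_left_cancel hna
  have ha3 := F.base.cube a (F.base.le1 d.ha)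
  rw [zpow_mod_three ha3 n] at hn hqZ
  rcases (by omega : n % 3 = 0 ∨ n % 3 = 1 ∨ n % 3 = 2) with e | e | e <;> rw [e] at hn hqZ
  · rw [zpow_zero, mul_one] at hqZ; exact hqZ hz
  · rw [zpow_one] at hn; exact hab hn
  · refine hab ?_
    have hc : Commute (a ^ (2 : ℤ)) a' := hn
    have := (hc.zpow_left 2).eq
    rw [← zpow_mul, zpow_mod_three ha3, show (2 : ℤ) * 2 % 3 = 1 from rfl, zpow_one] at this
    exact this

/-- An element of `Wp` trivial on `Q2/Z` is trivial on `Q1/Z`. -/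
theorem triv12 {u : G} (hu : u ∈ Wp Z Q g0) (h2 : Triv Z Q2 u) : Triv Z Q1 u := by
  obtain ⟨a', ha', b', hb', hab, hd⟩ := d.exists_d F h
  refine F.triv_of_two hu.2 d.ha d.haZ ha' hab (d.fix1 F h hu) ?_
  have hN : u * a' * u⁻¹ ∈ Q1 := F.conj_mem1 (h.Wp_pgroup F) inf_le_right hu ha'
  have e := F.shift_dec hN ha' hb'
  have h1 := h.shift_mem_Z' F (mem_inf.1 hd).2 hu
  rw [e] at h1
  have h3 := h.inter_Q1 F (d.not_mem1 F h) (mul_mem (mul_mem (inv_mem ha') hN) (F.base.Z1 (h2 b' hb'))) h1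
  rw [eq_inv_of_mul_eq_one_left h3]
  exact inv_mem (h2 b' hb')

/-- An element of `Wp` outside `D`. -/
theorem exists_u0 : ∃ u ∈ Wp Z Q g0, u ∉ Q ∧ ¬ Triv Z Q1 u ∧ ¬ Triv Z Q2 u := by
  obtain ⟨u, hu, hun⟩ : ∃ u ∈ Wp Z Q g0, u ∉ Q := by
    by_contra hc
    push Not at hc
    have := Subgroup.card_le_of_le (show Wp Z Q g0 ≤ Q ⊓ cj g0 Q from fun u hu => ⟨hc u hu, hu.1⟩)
    rw [h.card_Wp F, d.card_D F h] at this
    omega
  exact ⟨u, hu, hun, fun h1 => hun (F.mem_Q_of_triv hu.2 h1 ((d.symm F).triv12 F.symm h hu h1)),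
    fun h2 => hun (F.mem_Q_of_triv hu.2 (d.triv12 F h hu h2) h2)⟩

/-- The Sylow group `Q Wp`. -/
theorem sup_pgroup : IsPGroup 3 ↥(Wp Z Q g0 ⊔ Q) :=
  IsPGroup.to_sup_of_normal_right' (h.Wp_pgroup F) F.ext.pgroup (inf_le_right.trans F.ext.Q_norm)

/-- In a 3-group of `C(Z)` over `Q` and `Wp`, triviality on `Q2/Z` implies triviality on `Q1/Z`. -/
theorem triv12_big {P : Subgroup G} (hP : IsPGroup 3 ↥P) (hPC : P ≤ centralizer (Z : Set G)) (hQP : Q ≤ P)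
    (hWP : Wp Z Q g0 ≤ P) {s : G} (hs : s ∈ P) (h2 : Triv Z Q2 s) : Triv Z Q1 s := by
  obtain ⟨u, hu, -, hu1, hu2⟩ := d.exists_u0 F h
  have ha := (F.flag_common hP hPC (hWP hu) hu1 d.ha d.haZ (d.fix1 F h hu) s hs).1
  have hb := (F.symm.flag_common hP hPC (hWP hu) hu2 d.hb d.hbZ ((d.symm F).fix1 F.symm h hu) s hs).1
  have hsC := hPC hs
  have hx : x⁻¹ * (s * x * s⁻¹) ∈ Z := by
    rw [d.eq, F.shift_dec (F.conj_mem1 hP hPC hs d.ha) d.ha d.hb]
    exact mul_mem ha hb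
  obtain ⟨q, hq, hqx⟩ : ∃ q ∈ Q, ⁅q, x⁆ = x⁻¹ * (s * x * s⁻¹) := by
    set φ := F.ext.commHom h.memQ with hφ
    have hne : φ.range ≠ ⊥ := fun e => h.notZ (F.ext.mem_Z_of_comm h.memQ fun q hq =>
      commutatorElement_eq_one_iff_mul_comm.1 (congrArg Subtype.val
        (mem_bot.1 (e.le ⟨⟨q, hq⟩, rfl⟩ : φ ⟨q, hq⟩ ∈ (⊥ : Subgroup ↥Z)))))
    have htop : φ.range = ⊤ := by
      have hp : (Nat.card ↥Z).Prime := by rw [F.ext.Z_card]; exact Nat.prime_three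
      haveI : Fact (Nat.card ↥Z).Prime := ⟨hp⟩
      exact (Subgroup.eq_bot_or_eq_top_of_prime_card φ.range).resolve_left hne
    obtain ⟨q, hq⟩ := htop.ge (mem_top (⟨_, hx⟩ : ↥Z))
    exact ⟨q, q.2, congrArg Subtype.val hq⟩
  set s' := q⁻¹ * s with hs'
  have hqC := F.ext.Q_le hq
  have hs'C : s' ∈ centralizer (Z : Set G) := mul_mem (inv_mem hqC) hsC
  have hcomm : s' * x = x * s' := by
    have e1 : s * x * s⁻¹ = x * ⁅q, x⁆ := by rw [hqx, mul_inv_cancel_left]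
    rw [← F.ext.comm_Z h.memQ (F.ext.comm_mem hq h.memQ),
      show ⁅q, x⁆ * x = q * x * q⁻¹ by rw [commutatorElement_def]; group] at e1
    calc s' * x = q⁻¹ * (s * x * s⁻¹) * s := by rw [hs']; group
      _ = x * s' := by rw [e1, hs']; group
  have hs'P : s' ∈ P := mul_mem (inv_mem (hQP hq)) hs
  have ht2 : Triv Z Q2 s' := F.triv_mul (inv_mem hqC) (F.triv_Q (inv_mem hq) F.base.le2) h2
  obtain ⟨a', ha', b', hb', hab, hd⟩ := d.exists_d F h
  have hdQ := (mem_inf.1 hd).1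
  have hsD : (a' * b')⁻¹ * (s' * (a' * b') * s'⁻¹) ∈ Q ⊓ cj g0 Q := mem_inf.2
    ⟨mul_mem (inv_mem hdQ) (F.ext.conj_mem hs'C hdQ),
      mul_mem (inv_mem (mem_inf.1 hd).2) ((h.ext' F).conj_mem (h.mem_cent' F hcomm) (mem_inf.1 hd).2)⟩
  have hN : s' * a' * s'⁻¹ ∈ Q1 := F.conj_mem1 hP hPC hs'P ha'
  have e := F.shift_dec hN ha' hb'
  have h3 : (a' * b')⁻¹ * (s' * (a' * b') * s'⁻¹) ∈ Z := d.D_Q1 F h hsD (by
    rw [e]; exact mul_mem (mul_mem (inv_mem ha') hN) (F.base.Z1 (ht2 b' hb')))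
  rw [e] at h3
  have hta : a⁻¹ * (s' * a * s'⁻¹) ∈ Z := by
    rw [hs', shift_mul, F.ext.conj_Z (inv_mem hqC) ha]
    exact mul_mem (F.triv_Q (inv_mem hq) F.base.le1 a d.ha) ha
  have ht1 := F.triv_of_two hs'C d.ha d.haZ ha' hab hta ((Subgroup.mul_mem_cancel_right Z (ht2 b' hb')).1 h3)
  rw [show s = q * s' by rw [hs']; group]
  exact F.triv_mul hqC (F.triv_Q hq F.base.le1) ht1

/-- The order of a 3-group of `C(Z)` over `Q` and `Wp`. -/
theorem card_big {P : Subgroup G} (hP : IsPGroup 3 ↥P) (hPC : P ≤ centralizer (Z : Set G)) (hQP : Q ≤ P)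
    (hWP : Wp Z Q g0 ≤ P) : Nat.card ↥P ≤ 729 := by
  obtain ⟨ψ, hψ⟩ := F.symm.exists_char hP hPC
  have hk : ψ.ker.map P.subtype ≤ Q := by
    rintro _ ⟨y, hy, rfl⟩
    exact F.mem_Q_of_triv (hPC y.2) (d.triv12_big F h hP hPC hQP hWP y.2 ((hψ y).1 hy)) ((hψ y).1 hy)
  have h1 := Subgroup.card_le_of_le hk
  rw [card_map_of_injective P.subtype_injective, F.ext.Q_card] at h1
  have h2 : ψ.ker.index ≤ 3 := by
    rw [index_ker]
    have := Nat.le_of_dvd Nat.card_pos (card_subgroup_dvd_card ψ.range)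
    simpa using this
  rw [← ψ.ker.card_mul_index]
  exact le_trans (Nat.mul_le_mul h1 h2) (by norm_num)

theorem card_sup : Nat.card ↥(Wp Z Q g0 ⊔ Q) = 729 := by
  have h1 := card_sup_mul_inf (A := Q) (B := Wp Z Q g0) (inf_le_right.trans F.ext.Q_norm)
  have e : Q ⊓ Wp Z Q g0 = Q ⊓ cj g0 Q :=
    le_antisymm (le_inf inf_le_left (inf_le_right.trans inf_le_left)) (le_inf inf_le_left (h.D_le_Wp F))
  rw [e, d.card_D F h, h.card_Wp F, F.ext.Q_card, sup_comm] at h1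
  omega

/-- A 3-group of `C(Z)` is conjugate into `Q Wp`. -/
theorem le_conj {P : Subgroup G} (hP : IsPGroup 3 ↥P) (hPC : P ≤ centralizer (Z : Set G)) :
    ∃ c ∈ centralizer (Z : Set G), P ≤ cj c (Wp Z Q g0 ⊔ Q) := by
  haveI : Fact (Nat.Prime 3) := ⟨Nat.prime_three⟩
  set C := centralizer (Z : Set G) with hC
  set S := Wp Z Q g0 ⊔ Q with hS
  have hSC : S ≤ C := sup_le inf_le_right F.ext.Q_le
  obtain ⟨S1, hS1⟩ := ((d.sup_pgroup F h).of_equiv (subgroupOfEquivOfLe hSC).symm).exists_le_sylow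
  obtain ⟨P1, hP1⟩ := (hP.of_equiv (subgroupOfEquivOfLe hPC).symm).exists_le_sylow
  obtain ⟨c, hc⟩ := MulAction.exists_smul_eq ↥C S1 P1
  have hmap : (S1 : Subgroup ↥C).map C.subtype = S := by
    have hle : S ≤ (S1 : Subgroup ↥C).map C.subtype := fun y hy => ⟨⟨y, hSC hy⟩, hS1 hy, rfl⟩
    refine (Subgroup.eq_of_le_of_card_ge hle ?_).symm
    rw [d.card_sup F h]
    exact d.card_big F h (S1.2.map _) (map_subtype_le _) (le_sup_right.trans hle) (le_sup_left.trans hle)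
  refine ⟨c, c.2, fun y hy => ?_⟩
  have h1 : (⟨y, hPC hy⟩ : ↥C) ∈ (P1 : Subgroup ↥C) := hP1 hy
  rw [← hc, Sylow.coe_subgroup_smul, mem_pointwise_smul_iff_inv_smul_mem] at h1
  rw [mem_cj, ← hmap]
  exact ⟨_, h1, by simp⟩

/-- The order of a 3-group of `C(Z)`. -/
theorem small {P : Subgroup G} (hP : IsPGroup 3 ↥P) (hPC : P ≤ centralizer (Z : Set G)) : Nat.card ↥P ∣ 729 := by
  obtain ⟨c, -, hle⟩ := d.le_conj F h hP hPC
  have := card_dvd_of_le hle
  rwa [card_cj, d.card_sup F h] at this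

end Dg

/-- A point is the product of noncentral elements of the factors. -/
theorem Pt.exists_dg (F : Frm Z Q Q1 Q2 L1 L2 t1 t2) (h : Pt Z Q g0 x) : ∃ a b, Dg Z Q1 Q2 x a b := by
  obtain ⟨a, ha, b, hb, e⟩ := F.dec h.memQ
  exact ⟨a, b, ha, fun ha' => h.not_Q1 F.symm (by rw [e]; exact mul_mem (F.base.Z2 ha') hb), hb,
    fun hb' => h.not_Q1 F (by rw [e]; exact mul_mem ha (F.base.Z1 hb')), e⟩

end Cfsg.Agent.FFourLocal
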