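import Cfsg.Agent.Lib.FFourLocal.Loc.Swap
import Cfsg.Agent.Lib.Coprime.Generation

/-!
# `E` normalises no subgroup of order prime to three; the elements of order three
-/

set_option autoImplicit false
set_option linter.unusedSectionVars false
set_option linter.style.haveILetI false

namespace Cfsg.Agent.FFourLocal

open Subgroup
open Cfsg.Agent.UThreeLocal (cj mem_cj conj_mem_cj card_cj cj_centralizer cj_normalizer Fx mem_Fx Triv
  zpowers_eq_of_prime card_sup_mul_inf)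
open scoped commutatorElement

universe u

variable {G : Type u} [Group G] [Finite G] {Z Q Q1 Q2 L1 L2 : Subgroup G} {t1 t2 g0 x : G}

/-- The shift `q⁻¹ y q y⁻¹` gives the cube of `q y`. -/
theorem cube_qy {q y s : G} (hq : q ^ 3 = 1) (hy : y ^ 3 = 1) (hs : s ^ 3 = 1) (hqs : y * q * y⁻¹ = q * s)
    (hys : y * s * y⁻¹ = s) (h : Commute q ⁅s, q⁆) : (q * y) ^ 3 = ⁅s, q⁆ := by
  have e2 : y * (y * q * y⁻¹) * y⁻¹ = q * s * s := by
    rw [hqs, show y * (q * s) * y⁻¹ = (y * q * y⁻¹) * (y * s * y⁻¹) by group, hqs, hys]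
  calc (q * y) ^ 3 = q * (y * q * y⁻¹) * (y * (y * q * y⁻¹) * y⁻¹) * y ^ 3 := by
        simp only [pow_succ, pow_zero, one_mul]; group
    _ = q * (q * s) * (q * s * s) := by rw [e2, hqs, hy, mul_one]
    _ = q * q * (⁅s, q⁆ * q) * (s * s * s) := by rw [commutatorElement_def]; group
    _ = ⁅s, q⁆ := by
      rw [show s * s * s = 1 by rw [← hs, pow_succ, pow_two], mul_one, ← h.eq, ← mul_assoc,
        show q * q * q = 1 by rw [← hq, pow_succ, pow_two], one_mul]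

/-- A 3-group over `Q` centralises `Z`. -/
theorem Ext.le_cent (h : Ext Z Q) {P : Subgroup G} (hP : IsPGroup 3 ↥P) (hQP : Q ≤ P) :
    P ≤ centralizer (Z : Set G) := by
  haveI : Fact (Nat.Prime 3) := ⟨Nat.prime_three⟩
  haveI : Nontrivial ↥P := by
    obtain ⟨z, hz, hz1⟩ := h.exists_gen
    exact ⟨⟨⟨z, hQP (h.Z_le hz)⟩, 1, fun e => hz1 (congrArg Subtype.val e)⟩⟩
  haveI := hP.center_nontrivial
  obtain ⟨⟨c, hc⟩, hc1⟩ := exists_ne (1 : ↥(center ↥P))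
  have hcomm : ∀ p ∈ P, p * (c : G) = (c : G) * p := fun p hp =>
    congrArg Subtype.val (mem_center_iff.1 hc ⟨p, hp⟩)
  have hcZ : (c : G) ∈ Z := by
    rw [← h.cent]
    exact mem_centralizer_iff.2 fun q hq => hcomm q (hQP hq)
  exact fun p hp => h.mem_cent hcZ (fun e => hc1 (Subtype.ext (Subtype.ext e))) (hcomm p hp)

namespace Dg

variable {a b : G} (F : Frm Z Q Q1 Q2 L1 L2 t1 t2) (h : Pt Z Q g0 x) (d : Dg Z Q1 Q2 x a b)
include F h d

/-- The shift of `q1 ∈ Q1` under an element of `Wp`. -/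
theorem shift_mem {u q : G} (hu : u ∈ Wp Z Q g0) (hq : q ∈ Q1) (hn : ¬ Triv Z Q1 u) :
    q⁻¹ * (u * q * u⁻¹) ∈ Z ⊔ zpowers a :=
  (F.flag_common (h.Wp_pgroup F) inf_le_right hu hn d.ha d.haZ (d.fix1 F h hu) u hu).2 q hq

/-- No element `q y` of order three when `q` fixes one factor of `x` only. -/
theorem one_side {y q1 q2 : G} (hy : y ∈ Wp Z Q g0) (hn : ¬ Triv Z Q1 y) (hya : y * a = a * y)
    (hyb : y * b = b * y) (hy3 : y ^ 3 = 1) (h1 : q1 ∈ Q1) (h2 : q2 ∈ Q2) (hne : q1 * a ≠ a * q1)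
    (heq : q2 * b = b * q2) (h3 : (q1 * q2 * y) ^ 3 = 1) : False := by
  have hq2 : q2 ∈ Z ⊔ zpowers b := by
    rw [← F.symm.cent_eq d.hb d.hbZ]; exact ⟨h2, mem_centralizer_singleton_iff.2 heq⟩
  have hfixA : ∀ {e : G}, y * e = e * y → Z ⊔ zpowers e ≤ centralizer ({y} : Set G) := fun he => sup_le
    (fun z hz => mem_centralizer_singleton_iff.2 (mem_centralizer_iff.1 hy.2 z hz))
    (zpowers_le.2 (mem_centralizer_singleton_iff.2 he.symm))
  have hq2y : y * q2 * y⁻¹ = q2 := by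
    rw [← mem_centralizer_singleton_iff.1 (hfixA hyb hq2), mul_inv_cancel_right]
  set s := q1⁻¹ * (y * q1 * y⁻¹) with hs
  have hsA : s ∈ Z ⊔ zpowers a := d.shift_mem F h hy h1 hn
  have hsQ1 : s ∈ Q1 := sup_le F.base.Z1 (zpowers_le.2 d.ha) hsA
  have hsy : y * s * y⁻¹ = s := by
    rw [← mem_centralizer_singleton_iff.1 (hfixA hya hsA), mul_inv_cancel_right]
  have hqQ : q1 * q2 ∈ Q := mul_mem (F.base.le1 h1) (F.base.le2 h2)
  have hqs : y * (q1 * q2) * y⁻¹ = q1 * q2 * s := by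
    calc y * (q1 * q2) * y⁻¹ = (y * q1 * y⁻¹) * (y * q2 * y⁻¹) := by group
      _ = q1 * s * q2 := by rw [hq2y, hs, mul_inv_cancel_left]
      _ = q1 * q2 * s := by rw [mul_assoc, F.base.Q_comm s hsQ1 q2 h2, ← mul_assoc]
  have hz := F.ext.comm_mem (F.base.le1 hsQ1) hqQ
  rw [cube_qy (F.base.cube _ hqQ) hy3 (F.base.cube s (F.base.le1 hsQ1)) hqs hsy (F.ext.comm_Z hqQ hz).symm,
    commutatorElement_eq_one_iff_mul_comm, ← mul_assoc, mul_assoc q1 q2 s, ← F.base.Q_comm s hsQ1 q2 h2,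
    ← mul_assoc] at h3
  have hsq : s * q1 = q1 * s := mul_right_cancel h3
  by_cases hsZ : s ∈ Z
  · exact hn (F.triv_of_two hy.2 d.ha d.haZ h1 (fun e => hne e.symm) (d.fix1 F h hy) hsZ)
  · refine hne ?_
    have hm : q1 ∈ Z ⊔ zpowers s := by
      rw [← F.cent_eq hsQ1 hsZ]; exact ⟨h1, mem_centralizer_singleton_iff.2 hsq.symm⟩
    have hA : Z ⊔ zpowers a ≤ centralizer ({a} : Set G) := sup_le
      (fun z hz => mem_centralizer_singleton_iff.2 (F.ext.comm_Z (F.base.le1 d.ha) hz))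
      (zpowers_le.2 (mem_centralizer_singleton_iff.2 rfl))
    exact mem_centralizer_singleton_iff.1 (hA ((sup_le le_sup_left (zpowers_le.2 hsA) :
      Z ⊔ zpowers s ≤ Z ⊔ zpowers a) hm))

end Dg

namespace Cfg

variable {a b w g z : G} (F : Frm Z Q Q1 Q2 L1 L2 t1 t2) (c : Cfg Z Q Q1 Q2 t1 t2 g0 x a b w)
  (s : Swp Z t1 t2 x g z)
include F c s

/-- `E` meets no signalizer in `C(Z)`. -/
theorem base_sig {K : Subgroup G} (hK : (Nat.card ↥K).Coprime 3)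
    (hN : Z ⊔ zpowers a ⊔ zpowers b ⊔ zpowers w ≤ normalizer (K : Set G)) :
    K ⊓ centralizer (Z : Set G) = ⊥ := by
  refine F.signal_base inf_le_right (hK.coprime_dvd_left (card_dvd_of_le inf_le_left)) (c.A_le F)
    (fun p hp hc => F.ext.cent_abelian (c.A_le F) (c.comm_A F) (c.card_A F) hp fun q hq => (hc q hq).symm)
    fun p hp => Subgroup.mem_normalizer_fintype fun k hk => ?_
  obtain ⟨hk1, hk2⟩ := mem_inf.1 hk
  have hpC := F.ext.Q_le (c.A_le F hp)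
  exact mem_inf.2 ⟨(mem_normalizer_iff.1 (hN (mem_sup_left hp)) k).1 hk1, mul_mem (mul_mem hpC hk2) (inv_mem hpC)⟩

theorem sig {K : Subgroup G} (hK : (Nat.card ↥K).Coprime 3)
    (hN : Z ⊔ zpowers a ⊔ zpowers b ⊔ zpowers w ≤ normalizer (K : Set G)) : K = ⊥ := by
  set E := Z ⊔ zpowers a ⊔ zpowers b ⊔ zpowers w with hE
  set Cn := Z ⊔ zpowers x with hCn
  have hCnE : Cn ≤ E := le_sup_left.trans ((c.B_le F).trans inf_le_left)
  -- conjugates of the base case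
  have hconj : ∀ {h v e : G}, h ∈ normalizer (E : Set G) → v ∈ Z → v ≠ 1 → h * v * h⁻¹ = e →
      K ⊓ centralizer ({e} : Set G) = ⊥ := by
    intro h v e hh hv hv1 he
    have hEh : E = cj h⁻¹ E := (Subgroup.mem_normalizer_iff_map_conj_eq.1 (inv_mem hh)).symm
    have hN' : E ≤ normalizer ((cj h⁻¹ K : Subgroup G) : Set G) := by
      rw [cj_normalizer, hEh]; exact map_mono hN
    have hb := c.base_sig F s (K := cj h⁻¹ K) (by rw [card_cj]; exact hK) hN'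
    refine eq_bot_iff.2 fun k hk => mem_bot.2 ?_
    obtain ⟨hk1, hk2⟩ := mem_inf.1 hk
    have hm : h⁻¹ * k * h ∈ cj h⁻¹ K ⊓ centralizer (Z : Set G) := mem_inf.2
      ⟨by rw [mem_cj, inv_inv]; simpa [mul_assoc] using hk1, F.ext.mem_cent hv hv1 (by
        have h1 := mem_centralizer_singleton_iff.1 hk2
        rw [← he] at h1
        calc h⁻¹ * k * h * v = h⁻¹ * (k * (h * v * h⁻¹)) * h := by group
          _ = h⁻¹ * (h * v * h⁻¹ * k) * h := by rw [h1]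
          _ = v * (h⁻¹ * k * h) := by group)⟩
    rw [hb, mem_bot] at hm
    calc k = h * (h⁻¹ * k * h) * h⁻¹ := by group
      _ = 1 := by rw [hm, mul_one, mul_inv_cancel]
  have hpt : ∀ e ∈ Cn, e ≠ 1 → K ⊓ centralizer ({e} : Set G) = ⊥ := by
    intro e he he1
    obtain ⟨z1, hz1, j, rfl⟩ := mem_sup_zpowers (normalizes_of_comm fun q hq => F.ext.comm_Z c.pt.memQ hq) he
    by_cases hj : x ^ j = 1
    · rw [hj, mul_one] at he1 ⊢
      exact hconj (one_mem _) hz1 he1 (by group)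
    have hxj : x ^ j ∉ Z := fun e => hj (zpow_eq_one_of_mem (F.base.cube x c.pt.memQ) c.pt.notZ e)
    obtain ⟨q, hq, hqx⟩ := F.ext.comm_surj (zpow_mem c.pt.memQ j) hxj hz1
    have hzj : z ^ j ≠ 1 := fun e => hj (by rw [← s.gz, conj_zpow, e, mul_one, mul_inv_cancel])
    refine hconj (h := q * g) (v := z ^ j)
      (mul_mem (c.Q_norm_E F hq) (Subgroup.mem_normalizer_iff_map_conj_eq.2 (c.gE F s)))
      (zpow_mem s.z_mem j) hzj ?_
    rw [show q * g * z ^ j * (q * g)⁻¹ = q * (g * z ^ j * g⁻¹) * q⁻¹ by group, ← conj_zpow, s.gz, ← hqx,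
      commutatorElement_def]
    group
  haveI : IsMulCommutative ↥Cn := ⟨⟨fun u v => Subtype.ext (c.E_comm F u (hCnE u.2) v (hCnE v.2))⟩⟩
  have hc9 : Nat.card ↥Cn = 9 := c.pt.card_span F
  have hcyc : ¬ IsCyclic ↥Cn := fun hcyc => by
    obtain ⟨p, hp⟩ := IsCyclic.exists_ofOrder_eq_natCard (α := ↥Cn)
    rw [hc9] at hp
    have := orderOf_dvd_of_pow_eq_one (Subtype.ext (by simpa using c.E_exp F _ (hCnE p.2)) : p ^ 3 = 1)
    rw [hp] at this
    norm_num at this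
  have hgen := Coprime.fixedGen_eq (A := Cn) (K := K) hcyc (hCnE.trans hN)
    (by rw [hc9, show (9 : ℕ) = 3 ^ 2 from rfl]; exact Nat.Coprime.pow_left 2 hK.symm)
  rw [← hgen]
  exact eq_bot_iff.2 (iSup₂_le fun e he => (hpt e he.1 he.2).le)

theorem y_nontriv : ¬ Triv Z Q1 (g * a * g⁻¹) ∧ ¬ Triv Z Q2 (g * a * g⁻¹) := by
  have hP := c.y_Wp F s
  refine ⟨fun h1 => c.y_not F s ?_, fun h2 => c.y_not F s ?_⟩
  · exact F.mem_Q_of_triv hP.2 h1 ((c.dg.symm F).triv12 F.symm c.pt hP h1)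
  · exact F.mem_Q_of_triv hP.2 (c.dg.triv12 F c.pt hP h2) h2

theorem y_comm {p : G} (hp : p ∈ Z ⊔ zpowers a ⊔ zpowers b) : (g * a * g⁻¹) * p = p * (g * a * g⁻¹) :=
  c.E_comm F _ ((sup_le (le_sup_left.trans (le_sup_left.trans le_sup_left)) le_sup_right :
      Z ⊔ zpowers w ≤ Z ⊔ zpowers a ⊔ zpowers b ⊔ zpowers w) (c.ga_mem F s)) _ (mem_sup_left hp)

theorem y_cube : (g * a * g⁻¹) ^ 3 = 1 := by
  rw [conj_pow, F.base.cube a (c.a_Q F), mul_one, mul_inv_cancel]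

theorem y_t1 : t1 * (g * a * g⁻¹) = (g * a * g⁻¹) * t1 :=
  (mem_centralizer_singleton_iff.1 ((sup_le
    (fun z hz => mem_centralizer_singleton_iff.2 (mem_centralizer_iff.1 F.t1_C z hz))
    (zpowers_le.2 (mem_centralizer_singleton_iff.2 c.w_t1.symm)) : Z ⊔ zpowers w ≤ centralizer ({t1} : Set G))
      (c.ga_mem F s))).symm

theorem y_t2 : t2 * (g * a * g⁻¹) = (g * a * g⁻¹) * t2 :=
  (mem_centralizer_singleton_iff.1 ((sup_le
    (fun z hz => mem_centralizer_singleton_iff.2 (mem_centralizer_iff.1 F.t2_C z hz))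
    (zpowers_le.2 (mem_centralizer_singleton_iff.2 c.w_t2.symm)) : Z ⊔ zpowers w ≤ centralizer ({t2} : Set G))
      (c.ga_mem F s))).symm

/-- An element of `Q` is conjugate into `A`. -/
theorem into_A {q : G} (hq : q ∈ Q) : ∃ k : G, k * q * k⁻¹ ∈ Z ⊔ zpowers a ⊔ zpowers b := by
  obtain ⟨q1, h1, q2, h2, rfl⟩ := F.dec hq
  obtain ⟨l1, hl1, e1⟩ : ∃ l1 ∈ L1, l1 * q1 * l1⁻¹ ∈ Z ⊔ zpowers a := by
    by_cases hz : q1 ∈ Z
    · exact ⟨1, one_mem _, by rw [one_mul, inv_one, mul_one]; exact mem_sup_left hz⟩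
    · obtain ⟨l, hl, ζ, hζ, e⟩ := F.base.trans1 q1 h1 hz a c.dg.ha c.dg.haZ
      refine ⟨l, hl, ?_⟩
      rw [eq_mul_inv_of_mul_eq e]
      exact mul_mem (mem_sup_right (mem_zpowers a)) (mem_sup_left (inv_mem hζ))
  obtain ⟨l2, hl2, e2⟩ : ∃ l2 ∈ L2, l2 * q2 * l2⁻¹ ∈ Z ⊔ zpowers b := by
    by_cases hz : q2 ∈ Z
    · exact ⟨1, one_mem _, by rw [one_mul, inv_one, mul_one]; exact mem_sup_left hz⟩
    · obtain ⟨l, hl, ζ, hζ, e⟩ := F.base.trans2 q2 h2 hz b c.dg.hb c.dg.hbZ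
      refine ⟨l, hl, ?_⟩
      rw [eq_mul_inv_of_mul_eq e]
      exact mul_mem (mem_sup_right (mem_zpowers b)) (mem_sup_left (inv_mem hζ))
  refine ⟨l1 * l2, ?_⟩
  set B := l2 * q2 * l2⁻¹ with hB
  have hB2 : B ∈ Q2 := (mem_normalizer_iff.1 (F.base.L2_norm hl2) q2).1 h2
  have e : l1 * l2 * (q1 * q2) * (l1 * l2)⁻¹ = (l1 * q1 * l1⁻¹) * B := by
    calc l1 * l2 * (q1 * q2) * (l1 * l2)⁻¹ = l1 * ((l2 * q1) * l2⁻¹ * B) * l1⁻¹ := by rw [hB]; group
      _ = l1 * (q1 * B) * l1⁻¹ := by rw [← mem_centralizer_iff.1 (F.base.L2_cent hl2) q1 h1, mul_inv_cancel_right]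
      _ = (l1 * q1 * l1⁻¹) * ((l1 * B) * l1⁻¹) := by group
      _ = _ := by rw [← mem_centralizer_iff.1 (F.base.L1_cent hl1) B hB2, mul_inv_cancel_right]
  rw [e]
  exact mul_mem (mem_sup_left e1) ((sup_le (le_sup_left.trans le_sup_left) le_sup_right :
    Z ⊔ zpowers b ≤ Z ⊔ zpowers a ⊔ zpowers b) e2)

/-- `q y` with `q` centralising `x` is conjugate into `cj g0 Q`. -/
theorem into_Q' {q : G} (hq : q ∈ Fx Q x) : ∃ k : G, k * (q * (g * a * g⁻¹)) * k⁻¹ ∈ cj g0 Q := by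
  set y := g * a * g⁻¹ with hy
  have hyP := c.y_Wp F s
  rw [← hy] at hyP
  set D := Q ⊓ cj g0 Q with hD
  have haQ := c.a_Q F
  have haD : a ∉ D := fun e => c.dg.haZ (c.dg.D_Q1 F c.pt e c.dg.ha)
  have hDn : a ∈ normalizer (D : Set G) := F.Q_le_norm inf_le_left (c.pt.Z_le_D F) haQ
  have hW : D ⊔ zpowers a = Fx Q x := by
    refine Subgroup.eq_of_le_of_card_ge (sup_le (fun p hp => mem_inf.2 ⟨(mem_inf.1 hp).1,
      mem_centralizer_singleton_iff.2 (c.pt.D_comm F p hp x (c.pt.x_mem_D F))⟩)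
      (zpowers_le.2 (mem_inf.2 ⟨haQ, mem_centralizer_singleton_iff.2 (by
        rw [c.dg.eq, mul_assoc a b a, ← c.ab F])⟩))) ?_
    rw [card_step hDn (F.base.cube a haQ) haD, c.dg.card_D F c.pt,
      show Nat.card ↥(Fx Q x) = 81 from F.ext.card_Fx c.pt.memQ c.pt.notZ]
  obtain ⟨v, hv, m, rfl⟩ := mem_sup_zpowers hDn (hW.ge hq)
  -- an element of `Q1` moving `y` by a given power of `a`
  have hu : ∃ u ∈ Q1, a ^ m * (u * y * u⁻¹ * y⁻¹) ∈ Z := by
    have ha3 := F.base.cube a haQ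
    by_cases hm : a ^ m = 1
    · exact ⟨1, one_mem _, by simp [hm]⟩
    obtain ⟨u, hu, hua⟩ := F.exists_noncomm c.dg.ha c.dg.haZ
    have hn := (c.y_nontriv F s).1
    rw [← hy] at hn
    set σ := u⁻¹ * (y * u * y⁻¹) with hσ
    have hσA : σ ∈ Z ⊔ zpowers a := c.dg.shift_mem F c.pt hyP hu hn
    have hσZ : σ ∉ Z := fun e => hn (F.triv_of_two hyP.2 c.dg.ha c.dg.haZ hu hua (c.dg.fix1 F c.pt hyP) e)
    obtain ⟨ζ, hζ, n, hζn⟩ := mem_sup_zpowers (normalizes_of_comm fun r hr => F.ext.comm_Z haQ hr) hσA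
    have hn0 : a ^ n ≠ 1 := fun e => hσZ (by rw [hζn, e, mul_one]; exact hζ)
    -- `u⁻¹` and `u` move `y` by opposite powers
    have hpos : u⁻¹ * y * u⁻¹⁻¹ * y⁻¹ = ζ * a ^ n := by rw [← hζn, hσ]; group
    have hneg : u * y * u⁻¹ * y⁻¹ ∈ Z ⊔ zpowers a ∧ (a ^ n * (u * y * u⁻¹ * y⁻¹)) ∈ Z := by
      have e : u * y * u⁻¹ * y⁻¹ = u * σ⁻¹ * u⁻¹ := by rw [hσ]; group
      have hz : u * σ⁻¹ * u⁻¹ = ⁅u, σ⁻¹⁆ * σ⁻¹ := by rw [commutatorElement_def]; group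
      have hσQ : σ⁻¹ ∈ Q := inv_mem (sup_le F.ext.Z_le (zpowers_le.2 haQ) hσA)
      have hc := F.ext.comm_mem (F.base.le1 hu) hσQ
      rw [e, hz]
      refine ⟨mul_mem (mem_sup_left hc) (inv_mem hσA), ?_⟩
      rw [F.ext.comm_Z hσQ hc, ← mul_assoc]
      rw [hζn, mul_inv_rev] at hc ⊢
      rw [mul_inv_cancel_left]
      exact mul_mem (inv_mem hζ) hc
    rw [zpow_mod_three ha3 m] at hm ⊢
    rw [zpow_mod_three ha3 n] at hn0 hpos hneg
    rcases (by omega : n % 3 = 0 ∨ n % 3 = 1 ∨ n % 3 = 2) with kn | kn | kn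
    · rw [kn, zpow_zero] at hn0; exact absurd rfl hn0
    all_goals rcases (by omega : m % 3 = 0 ∨ m % 3 = 1 ∨ m % 3 = 2) with km | km | km
    · rw [km, zpow_zero] at hm; exact absurd rfl hm
    · exact ⟨u, hu, by rw [km, ← kn]; exact hneg.2⟩
    · refine ⟨u⁻¹, inv_mem hu, ?_⟩
      rw [hpos, km, kn, ← mul_assoc, ← F.ext.comm_Z (zpow_mem haQ _) hζ, mul_assoc, ← zpow_add,
        zpow_mod_three ha3]
      simpa using hζ
    · rw [km, zpow_zero] at hm; exact absurd rfl hm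
    · refine ⟨u⁻¹, inv_mem hu, ?_⟩
      rw [hpos, km, kn, ← mul_assoc, ← F.ext.comm_Z (zpow_mem haQ _) hζ, mul_assoc, ← zpow_add,
        zpow_mod_three ha3]
      simpa using hζ
    · exact ⟨u, hu, by rw [km, ← kn]; exact hneg.2⟩
  obtain ⟨u, hu1, hum⟩ := hu
  refine ⟨u, ?_⟩
  have hvQ := (mem_inf.1 hv).1
  have huQ := F.base.le1 hu1
  set ξ := ⁅u, a ^ m⁆ with hξ
  have hξZ : ξ ∈ Z := F.ext.comm_mem huQ (zpow_mem haQ m)
  have hvu : u * v * u⁻¹ ∈ cj g0 Q := by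
    rw [show u * v * u⁻¹ = ⁅u, v⁆ * v by rw [commutatorElement_def]; group]
    exact mul_mem (c.pt.Z_le' F (F.ext.comm_mem huQ hvQ)) (mem_inf.1 hv).2
  have e : u * (v * a ^ m * y) * u⁻¹ = (u * v * u⁻¹) * (ξ * (a ^ m * (u * y * u⁻¹ * y⁻¹)) * y) := by
    rw [hξ, commutatorElement_def]; group
  rw [e]
  exact mul_mem hvu (mul_mem (c.pt.Z_le' F (mul_mem hξZ hum)) (mem_inf.1 hyP).1)

/-- The elements of order three are conjugate into `E`. -/
theorem cls {e : G} (he : e ^ 3 = 1) : ∃ k : G, k * e * k⁻¹ ∈ Z ⊔ zpowers a ⊔ zpowers b ⊔ zpowers w := by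
  haveI : Fact (Nat.Prime 3) := ⟨Nat.prime_three⟩
  set E := Z ⊔ zpowers a ⊔ zpowers b ⊔ zpowers w with hE
  set y := g * a * g⁻¹ with hy
  have hyP := c.y_Wp F s
  have hy3 := c.y_cube F s
  rw [← hy] at hyP hy3
  have hyn : y ∈ normalizer (Q : Set G) := F.ext.Q_norm hyP.2
  have hS : Wp Z Q g0 ⊔ Q = Q ⊔ zpowers y := by
    refine (Subgroup.eq_of_le_of_card_ge (sup_le le_sup_right (zpowers_le.2 (mem_sup_left hyP))) ?_).symm
    rw [c.dg.card_sup F c.pt, card_step hyn hy3 (c.y_not F s), F.ext.Q_card]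
  -- into `C(Z)`
  obtain ⟨P0, hP0⟩ := F.ext.pgroup.exists_le_sylow
  have hp : IsPGroup 3 ↥(zpowers e) := by
    rintro ⟨_, i, rfl⟩
    refine ⟨1, Subtype.ext ?_⟩
    show (e ^ i) ^ 3 ^ 1 = 1
    rw [pow_one, ← zpow_natCast, ← zpow_mul, mul_comm, zpow_mul, zpow_natCast, he, one_zpow]
  obtain ⟨P1, hP1⟩ := hp.exists_le_sylow
  obtain ⟨k1, hk1⟩ := MulAction.exists_smul_eq G P1 P0
  have hm : k1 * e * k1⁻¹ ∈ (P0 : Subgroup G) := by
    rw [← hk1, Sylow.coe_subgroup_smul, mem_pointwise_smul_iff_inv_smul_mem]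
    simpa [mul_assoc] using hP1 (mem_zpowers e)
  obtain ⟨k2, -, hk2⟩ := c.dg.le_conj F c.pt P0.2 (F.ext.le_cent P0.2 hP0)
  have hm2 := mem_cj.1 (hk2 hm)
  rw [hS] at hm2
  -- reductions
  suffices hQy : ∀ q ∈ Q, (q * y) ^ 3 = 1 → ∃ k : G, k * (q * y) * k⁻¹ ∈ E by
    obtain ⟨q, hq, n, e1⟩ := mem_sup_zpowers hyn hm2
    have hf : ∃ k : G, k * (q * y ^ n) * k⁻¹ ∈ E := by
      have h3 : (q * y ^ n) ^ 3 = 1 := by
        rw [← e1, show k2⁻¹ * (k1 * e * k1⁻¹) * k2 = (k2⁻¹ * k1) * e * (k2⁻¹ * k1)⁻¹ by group, conj_pow, he,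
          mul_one, mul_inv_cancel]
      rw [zpow_mod_three hy3 n] at h3 ⊢
      rcases (by omega : n % 3 = 0 ∨ n % 3 = 1 ∨ n % 3 = 2) with kn | kn | kn <;> rw [kn] at h3 ⊢
      · obtain ⟨k, hk⟩ := c.into_A F s hq
        exact ⟨k, by rw [zpow_zero, mul_one]; exact mem_sup_left hk⟩
      · rw [zpow_one] at h3 ⊢; exact hQy q hq h3
      · -- pass to the inverse
        have e2 : (q * y ^ (2 : ℤ))⁻¹ = (y * q⁻¹ * y⁻¹) * y := by
          rw [mul_inv_rev, ← zpow_neg, zpow_mod_three hy3 (-2), show (-2 : ℤ) % 3 = 1 from rfl, zpow_one,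
            inv_mul_cancel_right]
        obtain ⟨k, hk⟩ := hQy _ (F.ext.conj_mem hyP.2 (inv_mem hq)) (by rw [← e2, inv_pow, h3, inv_one])
        rw [← e2] at hk
        refine ⟨k, ?_⟩
        rw [show k * (q * y ^ (2 : ℤ)) * k⁻¹ = (k * (q * y ^ (2 : ℤ))⁻¹ * k⁻¹)⁻¹ by group]
        exact inv_mem hk
    obtain ⟨k, hk⟩ := hf
    refine ⟨k * k2⁻¹ * k1, ?_⟩
    rw [← e1] at hk
    convert hk using 1
    group
  -- `q y`
  intro q hq h3
  have viaQ' : ∀ {p : G}, p ∈ Fx Q x → ∃ k : G, k * (p * y) * k⁻¹ ∈ E := fun {p} hp => by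
    obtain ⟨k, hk⟩ := c.into_Q' F s hp
    obtain ⟨k', hk'⟩ := c.into_A F s ((c.gQ' F s).le (conj_mem_cj.2 hk))
    refine ⟨k' * g * k, mem_sup_left ?_⟩
    convert hk' using 1
    rw [hy]; group
  obtain ⟨q1, h1, q2, h2, rfl⟩ := F.dec hq
  have hcx : ⁅q1 * q2, x⁆ = ⁅q1, a⁆ * ⁅q2, b⁆ := by
    rw [c.dg.eq, F.ext.comm_mul_left (F.base.le1 h1) (F.base.le2 h2) (mul_mem (c.a_Q F) (c.b_Q F)),
      F.ext.comm_mul_right (c.a_Q F) (c.b_Q F) (F.base.le1 h1),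
      F.ext.comm_mul_right (c.a_Q F) (c.b_Q F) (F.base.le2 h2),
      commutatorElement_eq_one_iff_mul_comm.2 (F.base.Q_comm q1 h1 b c.dg.hb),
      commutatorElement_eq_one_iff_mul_comm.2 (F.base.Q_comm a c.dg.ha q2 h2).symm, mul_one, one_mul]
  set α := ⁅q1, a⁆ with hα
  set β := ⁅q2, b⁆ with hβ
  have hαZ : α ∈ Z := F.ext.comm_mem (F.base.le1 h1) (c.a_Q F)
  have hβZ : β ∈ Z := F.ext.comm_mem (F.base.le2 h2) (c.b_Q F)
  by_cases hp : α * β = 1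
  · exact viaQ' (mem_inf.2 ⟨hq, mem_centralizer_singleton_iff.2
      (commutatorElement_eq_one_iff_mul_comm.1 (hcx.trans hp))⟩)
  by_cases hα1 : α = 1
  · exfalso
    have hβ1 : q2 * b ≠ b * q2 := fun e => hp (by
      rw [hα1, one_mul, hβ]; exact commutatorElement_eq_one_iff_mul_comm.2 e)
    rw [F.base.Q_comm q1 h1 q2 h2] at h3
    exact (c.dg.symm F).one_side F.symm c.pt hyP (c.y_nontriv F s).2
      (c.y_comm F s (mem_sup_right (mem_zpowers b)))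
      (c.y_comm F s (mem_sup_left (mem_sup_right (mem_zpowers a)))) hy3 h2 h1 hβ1
      (commutatorElement_eq_one_iff_mul_comm.1 hα1) h3
  by_cases hβ1 : β = 1
  · exfalso
    exact c.dg.one_side F c.pt hyP (c.y_nontriv F s).1
      (c.y_comm F s (mem_sup_left (mem_sup_right (mem_zpowers a))))
      (c.y_comm F s (mem_sup_right (mem_zpowers b))) hy3 h1 h2
      (fun e => hα1 (commutatorElement_eq_one_iff_mul_comm.2 e))
      (commutatorElement_eq_one_iff_mul_comm.1 hβ1) h3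
  have hαβ : α = β := by
    rw [← F.ext.zpowers_eq hαZ hα1] at hβZ
    obtain ⟨i, hi⟩ := mem_zpowers_iff.1 hβZ
    have h3 := F.ext.Z_cube hαZ
    rw [zpow_mod_three h3 i] at hi
    rcases (by omega : i % 3 = 0 ∨ i % 3 = 1 ∨ i % 3 = 2) with ki | ki | ki <;> rw [ki] at hi
    · exact absurd (by simpa using hi.symm) hβ1
    · simpa using hi
    · refine absurd ?_ hp
      rw [← hi, ← h3, zpow_two, pow_succ, pow_two, mul_assoc]
  -- conjugate by the involution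
  have ht1C := F.t1_C
  set q1' := t1 * q1 * t1⁻¹ with hq1'
  have h1' : q1' ∈ Q1 := (mem_normalizer_iff.1 (F.base.L1_norm F.base.t1_mem) q1).1 h1
  have hα' : ⁅q1', a⁆ = α⁻¹ := by
    have e : ⁅q1', a⁻¹⁆ = α := by
      rw [← F.ext.conj_Z ht1C hαZ, hα, hq1', ← c.t1_a]
      simp only [commutatorElement_def]; group
    have e2 : ⁅q1', a⁆ * ⁅q1', a⁻¹⁆ = 1 := by
      rw [← F.ext.comm_mul_right (c.a_Q F) (inv_mem (c.a_Q F)) (F.base.le1 h1'), mul_inv_cancel,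
        commutatorElement_one_right]
    rw [eq_inv_of_mul_eq_one_left e2, e]
  obtain ⟨k, hk⟩ := viaQ' (p := q1' * q2) (mem_inf.2 ⟨mul_mem (F.base.le1 h1') (F.base.le2 h2),
    mem_centralizer_singleton_iff.2 (commutatorElement_eq_one_iff_mul_comm.1 (by
      rw [c.dg.eq, F.ext.comm_mul_left (F.base.le1 h1') (F.base.le2 h2) (mul_mem (c.a_Q F) (c.b_Q F)),
        F.ext.comm_mul_right (c.a_Q F) (c.b_Q F) (F.base.le1 h1'),
        F.ext.comm_mul_right (c.a_Q F) (c.b_Q F) (F.base.le2 h2),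
        commutatorElement_eq_one_iff_mul_comm.2 (F.base.Q_comm q1' h1' b c.dg.hb),
        commutatorElement_eq_one_iff_mul_comm.2 (F.base.Q_comm a c.dg.ha q2 h2).symm, mul_one, one_mul, hα',
        ← hβ, ← hαβ, inv_mul_cancel]))⟩)
  refine ⟨k * t1, ?_⟩
  have e : t1 * (q1 * q2 * y) * t1⁻¹ = q1' * q2 * y := by
    calc t1 * (q1 * q2 * y) * t1⁻¹ = (t1 * q1 * t1⁻¹) * (t1 * q2 * t1⁻¹) * ((t1 * y) * t1⁻¹) := by group
      _ = _ := by rw [F.t1_fix h2, show t1 * y = y * t1 from c.y_t1 F s, mul_inv_cancel_right]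
  rw [← e] at hk
  convert hk using 1
  group

end Cfg

end Cfsg.Agent.FFourLocal
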