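import Cfsg.Agent.Lib.FFourLocal.Loc.Elem

/-!
# An element interchanging `(a, b)` and `(y, y⁻¹ z)`
-/

set_option autoImplicit false
set_option linter.unusedSectionVars false
set_option linter.style.haveILetI false

namespace Cfsg.Agent.FFourLocal

open Subgroup
open Cfsg.Agent.UThreeLocal (cj mem_cj conj_mem_cj card_cj cj_centralizer cj_normalizer Fx mem_Fx Triv
  zpowers_eq_of_prime card_sup_mul_inf)
open scoped commutatorElement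

universe u

variable {G : Type u} [Group G] [Finite G] {Z Q Q1 Q2 L1 L2 : Subgroup G} {t1 t2 g0 x : G}

/-- An element moving one nontrivial element of `Z` into `Z` normalises `Q`. -/
theorem Ext.cj_eq_of_mem (h : Ext Z Q) {k z : G} (hz : z ∈ Z) (hz1 : z ≠ 1) (hk : k * z * k⁻¹ ∈ Z) : cj k Q = Q := by
  have hk1 : k * z * k⁻¹ ≠ 1 := fun e => hz1 (conj_eq_one_iff.1 e)
  refine Subgroup.mem_normalizer_iff_map_conj_eq.1 (h.norm (Subgroup.mem_normalizer_iff_map_conj_eq.2 ?_))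
  nth_rw 1 [← h.zpowers_eq hz hz1]
  rw [MonoidHom.map_zpowers]
  exact h.zpowers_eq hk hk1

theorem cj_cj (g k : G) (K : Subgroup G) : cj g (cj k K) = cj (g * k) K := by
  ext e
  rw [mem_cj, mem_cj, mem_cj]
  simp only [mul_inv_rev, mul_assoc]

/-- An element maps a diagonal element to another one. -/
theorem Frm.exists_map (F : Frm Z Q Q1 Q2 L1 L2 t1 t2) {a b x' a' b' : G} (hxQ : x ∈ Q) (hxZ : x ∉ Z)
    (d : Dg Z Q1 Q2 x a b) (d' : Dg Z Q1 Q2 x' a' b') : ∃ h ∈ centralizer (Z : Set G), h * x * h⁻¹ = x' := by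
  obtain ⟨l1, hl1, z1, hz1, e1⟩ := F.base.trans1 a d.ha d.haZ a' d'.ha d'.haZ
  obtain ⟨l2, hl2, z2, hz2, e2⟩ := F.base.trans2 b d.hb d.hbZ b' d'.hb d'.hbZ
  have hlC : l1 * l2 ∈ centralizer (Z : Set G) := mul_mem (F.base.L1_le hl1) (F.base.L2_le hl2)
  set B := l2 * b * l2⁻¹ with hB
  have hB2 : B ∈ Q2 := (mem_normalizer_iff.1 (F.base.L2_norm hl2) b).1 d.hb
  have hy : l1 * l2 * x * (l1 * l2)⁻¹ = (l1 * a * l1⁻¹) * B := by
    rw [d.eq]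
    calc l1 * l2 * (a * b) * (l1 * l2)⁻¹ = l1 * ((l2 * a) * l2⁻¹ * B) * l1⁻¹ := by rw [hB]; group
      _ = l1 * (a * B) * l1⁻¹ := by rw [← mem_centralizer_iff.1 (F.base.L2_cent hl2) a d.ha, mul_inv_cancel_right]
      _ = (l1 * a * l1⁻¹) * ((l1 * B) * l1⁻¹) := by group
      _ = _ := by rw [← mem_centralizer_iff.1 (F.base.L1_cent hl1) B hB2, mul_inv_cancel_right]
  set y := l1 * l2 * x * (l1 * l2)⁻¹ with hy'
  have hyQ : y ∈ Q := F.ext.conj_mem hlC hxQ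
  have hyZ : y ∉ Z := fun e => hxZ (by
    have h1 := F.ext.conj_Z (inv_mem hlC) e
    rw [hy', show (l1 * l2)⁻¹ * (l1 * l2 * x * (l1 * l2)⁻¹) * (l1 * l2)⁻¹⁻¹ = x by group] at h1
    exact h1 ▸ e)
  obtain ⟨q, hq, hqy⟩ := F.ext.comm_surj hyQ hyZ (mul_mem hz1 hz2)
  refine ⟨q * (l1 * l2), mul_mem (F.ext.Q_le hq) hlC, ?_⟩
  have hB' : z1 * B = B * z1 := F.ext.comm_Z (F.base.le2 hB2) hz1
  calc q * (l1 * l2) * x * (q * (l1 * l2))⁻¹ = q * y * q⁻¹ := by rw [hy']; group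
    _ = ⁅q, y⁆ * y := by rw [commutatorElement_def]; group
    _ = y * (z1 * z2) := by rw [hqy]; exact F.ext.comm_Z hyQ (mul_mem hz1 hz2)
    _ = (l1 * a * l1⁻¹ * z1) * (B * z2) := by
      rw [hy, mul_assoc _ B, ← mul_assoc B, ← hB']
      group
    _ = x' := by rw [e1, e2, d'.eq]

/-- `g` interchanges `z` and `x`, and the product of the two inverting involutions is a 2-element. -/
structure Swp (Z : Subgroup G) (t1 t2 x g z : G) : Prop where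
  z_mem : z ∈ Z
  z_ne : z ≠ 1
  gz : g * z * g⁻¹ = x
  gx : g * x * g⁻¹ = z
  pow : ∃ e : ℕ, (t1 * t2 * (g * (t1 * t2) * g⁻¹)) ^ 2 ^ e = 1

namespace Cfg

variable {a b w : G} (F : Frm Z Q Q1 Q2 L1 L2 t1 t2) (c : Cfg Z Q Q1 Q2 t1 t2 g0 x a b w)
include F c

theorem t0_C : t1 * t2 ∈ centralizer (Z : Set G) := mul_mem F.t1_C F.t2_C

theorem t0_sq : t1 * t2 * (t1 * t2) = 1 := by
  calc t1 * t2 * (t1 * t2) = t1 * (t2 * t1) * t2 := by group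
    _ = (t1 * t1) * (t2 * t2) := by rw [← F.t12]; group
    _ = 1 := by rw [sq_one_of_order F.base.t1_two, sq_one_of_order F.base.t2_two, one_mul]

theorem t0_inv : (t1 * t2)⁻¹ = t1 * t2 := inv_eq_of_mul_eq_one_right (c.t0_sq F)

theorem t0_a : t1 * t2 * a * (t1 * t2)⁻¹ = a⁻¹ := by
  rw [show t1 * t2 * a * (t1 * t2)⁻¹ = t1 * (t2 * a * t2⁻¹) * t1⁻¹ by group, F.symm.t1_fix c.dg.ha, c.t1_a]

theorem t0_b : t1 * t2 * b * (t1 * t2)⁻¹ = b⁻¹ := by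
  rw [show t1 * t2 * b * (t1 * t2)⁻¹ = t1 * (t2 * b * t2⁻¹) * t1⁻¹ by group, c.t2_b,
    F.t1_fix (inv_mem c.dg.hb)]

theorem t0_x : t1 * t2 * x * (t1 * t2)⁻¹ = x⁻¹ := by
  rw [c.dg.eq, show t1 * t2 * (a * b) * (t1 * t2)⁻¹ = (t1 * t2 * a * (t1 * t2)⁻¹) * (t1 * t2 * b * (t1 * t2)⁻¹) by group,
    c.t0_a F, c.t0_b F, ← mul_inv_rev, ← c.ab F]

theorem t0_w : t1 * t2 * w * (t1 * t2)⁻¹ = w := by
  rw [show t1 * t2 * w * (t1 * t2)⁻¹ = t1 * (t2 * w * t2⁻¹) * t1⁻¹ by group, c.w_t2, mul_inv_cancel_right, c.w_t1,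
    mul_inv_cancel_right]

theorem exists_swp : ∃ g z : G, Swp Z t1 t2 x g z := by
  set z := g0⁻¹ * x * g0 with hzd
  have hz : z ∈ Z := mem_cj.1 c.pt.mem
  have hz1 : z ≠ 1 := fun e => c.pt.ne_one F (conj_eq_one_iff.1 (show g0⁻¹ * x * g0⁻¹⁻¹ = 1 by rwa [inv_inv]))
  set x' := g0⁻¹ * z * g0 with hx'
  have hpt : Pt Z Q g0⁻¹ x' := by
    refine ⟨?_, mem_cj.1 (c.pt.Z_le' F hz), fun e => hz1 (c.pt.inter_bot F hz (mem_cj.2 e))⟩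
    rw [mem_cj, inv_inv, hx']
    simpa [mul_assoc] using hz
  obtain ⟨a', b', d'⟩ := hpt.exists_dg F
  obtain ⟨h, hh, hhx⟩ := F.exists_map c.pt.memQ c.pt.notZ c.dg d'
  set g1 := g0 * h with hg1
  have g1z : g1 * z * g1⁻¹ = x := by
    calc g1 * z * g1⁻¹ = g0 * (h * z * h⁻¹) * g0⁻¹ := by rw [hg1]; group
      _ = x := by rw [F.ext.conj_Z hh hz, hzd]; group
  have g1x : g1 * x * g1⁻¹ = z := by
    calc g1 * x * g1⁻¹ = g0 * (h * x * h⁻¹) * g0⁻¹ := by rw [hg1]; group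
      _ = z := by rw [hhx, hx']; group
  set t := t1 * t2 with ht
  have htt : t * t = 1 := c.t0_sq F
  have hti : t⁻¹ = t := c.t0_inv F
  set r := g1 * t * g1⁻¹ with hr
  have hrr : r * r = 1 := by
    calc r * r = g1 * (t * t) * g1⁻¹ := by rw [hr]; group
      _ = 1 := by rw [htt, mul_one, mul_inv_cancel]
  have hri : r⁻¹ = r := inv_eq_of_mul_eq_one_right hrr
  have rz : r * z * r⁻¹ = z⁻¹ := by
    calc r * z * r⁻¹ = g1 * (t * (g1⁻¹ * z * g1) * t⁻¹) * g1⁻¹ := by rw [hr]; group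
      _ = g1 * (t * x * t⁻¹) * g1⁻¹ := by rw [← g1x]; group
      _ = z⁻¹ := by rw [c.t0_x F, ← g1x]; group
  have rx : r * x * r⁻¹ = x := by
    calc r * x * r⁻¹ = g1 * (t * (g1⁻¹ * x * g1) * t⁻¹) * g1⁻¹ := by rw [hr]; group
      _ = g1 * (t * z * t⁻¹) * g1⁻¹ := by rw [← g1z]; group
      _ = x := by rw [F.ext.conj_Z (c.t0_C F) hz, g1z]
  set k := t * r with hk
  have kz : k * z * k⁻¹ = z⁻¹ := by
    calc k * z * k⁻¹ = t * (r * z * r⁻¹) * t⁻¹ := by rw [hk]; group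
      _ = z⁻¹ := by rw [rz, F.ext.conj_Z (c.t0_C F) (inv_mem hz)]
  have kx : k * x * k⁻¹ = x⁻¹ := by
    calc k * x * k⁻¹ = t * (r * x * r⁻¹) * t⁻¹ := by rw [hk]; group
      _ = x⁻¹ := by rw [rx, c.t0_x F]
  have ki : k⁻¹ = r * t := by rw [hk, mul_inv_rev, hri, hti]
  have rk : ∀ n : ℤ, r * k ^ n * r⁻¹ = k ^ (-n) := fun n => by
    rw [← conj_zpow, zpow_neg, ← inv_zpow]
    congr 1
    rw [ki, hk, ← mul_assoc, mul_assoc (r * t) r, mul_inv_cancel, mul_one]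
  have tk : ∀ n : ℤ, t * k ^ n = k ^ (-n) * t := fun n => by
    rw [← mul_inv_eq_iff_eq_mul, ← conj_zpow, zpow_neg, ← inv_zpow]
    congr 1
    rw [ki, hk, hti, ← mul_assoc t t r, htt, one_mul]
  obtain ⟨e, o, ho, hN⟩ := Nat.exists_eq_two_pow_mul_odd (orderOf_pos k).ne'
  obtain ⟨m, hm⟩ := ho
  obtain ⟨j, hj⟩ : ∃ j : ℤ, 1 - 4 * j = (o : ℤ) ∨ 1 - 4 * j = -(o : ℤ) := by
    rcases Nat.even_or_odd m with ⟨i, hi⟩ | ⟨i, hi⟩
    · exact ⟨-(i : ℤ), Or.inl (by omega)⟩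
    · exact ⟨(i : ℤ) + 1, Or.inr (by omega)⟩
  have hc2 : ∀ v : G, k * v * k⁻¹ = v⁻¹ → k ^ (2 * j) * v * (k ^ (2 * j))⁻¹ = v := by
    intro v hv
    have e2 : Commute (k ^ (2 : ℤ)) v := by
      show k ^ (2 : ℤ) * v = v * k ^ (2 : ℤ)
      rw [← mul_inv_eq_iff_eq_mul]
      calc k ^ (2 : ℤ) * v * (k ^ (2 : ℤ))⁻¹ = k * (k * v * k⁻¹) * k⁻¹ := by rw [zpow_two]; group
        _ = k * v⁻¹ * k⁻¹ := by rw [hv]
        _ = (k * v * k⁻¹)⁻¹ := by group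
        _ = v := by rw [hv, inv_inv]
    rw [zpow_mul, (e2.zpow_left j).eq, mul_inv_cancel_right]
  refine ⟨k ^ (2 * j) * g1, z, hz, hz1, ?_, ?_, e, ?_⟩
  · calc k ^ (2 * j) * g1 * z * (k ^ (2 * j) * g1)⁻¹ = k ^ (2 * j) * (g1 * z * g1⁻¹) * (k ^ (2 * j))⁻¹ := by group
      _ = x := by rw [g1z, hc2 x kx]
  · calc k ^ (2 * j) * g1 * x * (k ^ (2 * j) * g1)⁻¹ = k ^ (2 * j) * (g1 * x * g1⁻¹) * (k ^ (2 * j))⁻¹ := by group
      _ = z := by rw [g1x, hc2 z kz]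
  · have e1 : t * (k ^ (2 * j) * g1 * t * (k ^ (2 * j) * g1)⁻¹) = k ^ (1 - 4 * j) := by
      have h1 : r * k ^ (-(2 * j)) = k ^ (2 * j) * r := by
        rw [← mul_inv_eq_iff_eq_mul, rk, neg_neg]
      calc t * (k ^ (2 * j) * g1 * t * (k ^ (2 * j) * g1)⁻¹) = t * k ^ (2 * j) * (r * k ^ (-(2 * j))) := by
            rw [hr]; group
        _ = t * k ^ (2 * j + 2 * j) * r := by rw [h1, zpow_add]; group
        _ = k ^ (-(2 * j + 2 * j)) * k := by rw [tk, mul_assoc, ← hk]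
        _ = k ^ (1 - 4 * j) := by rw [← zpow_add_one]; congr 1; ring
    rw [e1, ← zpow_natCast, ← zpow_mul, ← orderOf_dvd_iff_zpow_eq_one, hN]
    rcases hj with e2 | e2 <;> rw [e2]
    · exact ⟨1, by push_cast; ring⟩
    · exact ⟨-1, by push_cast; ring⟩

variable {g z : G} (s : Swp Z t1 t2 x g z)
include s

theorem gQ : cj g Q = cj g0 Q := by
  have h := F.ext.cj_eq_of_mem s.z_mem s.z_ne (k := g0⁻¹ * g) (by
    rw [show g0⁻¹ * g * z * (g0⁻¹ * g)⁻¹ = g0⁻¹ * (g * z * g⁻¹) * g0 by group, s.gz]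
    exact mem_cj.1 c.pt.mem)
  conv_rhs => rw [← h, cj_cj, mul_inv_cancel_left]

theorem gQ' : cj g (cj g0 Q) = Q := by
  rw [cj_cj]
  refine F.ext.cj_eq_of_mem (z := g0⁻¹ * x * g0) (mem_cj.1 c.pt.mem)
    (fun e => c.pt.ne_one F (conj_eq_one_iff.1 (show g0⁻¹ * x * g0⁻¹⁻¹ = 1 by rwa [inv_inv]))) ?_
  rw [show g * g0 * (g0⁻¹ * x * g0) * (g * g0)⁻¹ = g * x * g⁻¹ by group, s.gx]
  exact s.z_mem

theorem gD : ∀ p ∈ Q ⊓ cj g0 Q, g * p * g⁻¹ ∈ Q ⊓ cj g0 Q := fun p hp => by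
  obtain ⟨h1, h2⟩ := mem_inf.1 hp
  exact mem_inf.2 ⟨(c.gQ' F s).le (conj_mem_cj.2 h2), (c.gQ F s).le (conj_mem_cj.2 h1)⟩

theorem gE : cj g (Z ⊔ zpowers a ⊔ zpowers b ⊔ zpowers w) = Z ⊔ zpowers a ⊔ zpowers b ⊔ zpowers w := by
  set E := Z ⊔ zpowers a ⊔ zpowers b ⊔ zpowers w with hE
  obtain ⟨d, hd, hda⟩ := c.exists_d' F
  have hdQ := (mem_inf.1 hd).1
  set R := E ⊔ zpowers d with hR
  have hRN : zpowers d ≤ normalizer (E : Set G) := zpowers_le.2 (c.Q_norm_E F hdQ)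
  have hx : x ∈ E := (mem_inf.1 (c.B_le F (mem_sup_left (mem_sup_right (mem_zpowers x))))).1
  have haE : a ∈ E := mem_sup_left (mem_sup_left (mem_sup_right (mem_zpowers a)))
  have hDR : Q ⊓ cj g0 Q ≤ R := by
    rw [c.D_eq F hd hda]
    exact sup_le (sup_le ((le_sup_left.trans (le_sup_left.trans le_sup_left)).trans le_sup_left)
      (zpowers_le.2 (mem_sup_left hx))) le_sup_right
  have haD : a ∉ Q ⊓ cj g0 Q := fun e => c.dg.haZ (c.dg.D_Q1 F c.pt e c.dg.ha)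
  have hW : Fx Q x ≤ R := by
    have h1 : Q ⊓ cj g0 Q ⊔ zpowers a ≤ Fx Q x := sup_le (fun y hy => mem_inf.2 ⟨(mem_inf.1 hy).1,
      mem_centralizer_singleton_iff.2 (c.pt.D_comm F y hy x (c.pt.x_mem_D F))⟩)
      (zpowers_le.2 (mem_inf.2 ⟨c.a_Q F, mem_centralizer_singleton_iff.2 (c.E_comm F a haE x hx)⟩))
    have h2 := Subgroup.eq_of_le_of_card_ge h1 (by
      rw [card_step (F.Q_le_norm inf_le_left (c.pt.Z_le_D F) (c.a_Q F)) (F.base.cube a (c.a_Q F)) haD,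
        c.dg.card_D F c.pt, show Nat.card ↥(Fx Q x) = 81 from F.ext.card_Fx c.pt.memQ c.pt.notZ])
    exact h2.ge.trans (sup_le hDR (zpowers_le.2 (mem_sup_left haE)))
  have hwN : w ∈ normalizer ((Q ⊓ cj g0 Q : Subgroup G) : Set G) := Subgroup.mem_normalizer_fintype fun y hy =>
    mem_inf.2 ⟨F.ext.conj_mem (c.w_C F) (mem_inf.1 hy).1,
      mul_mem (mul_mem (mem_inf.1 c.wp).1 (mem_inf.1 hy).2) (inv_mem (mem_inf.1 c.wp).1)⟩
  have hW' : Wp Z Q g0 ≤ R := by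
    have h1 : Q ⊓ cj g0 Q ⊔ zpowers w ≤ Wp Z Q g0 := sup_le (c.pt.D_le_Wp F) (zpowers_le.2 c.wp)
    have h2 := Subgroup.eq_of_le_of_card_ge h1 (by
      rw [card_step hwN (c.w_cube F) (fun e => c.w_not (mem_inf.1 e).1), c.dg.card_D F c.pt, c.pt.card_Wp F])
    exact h2.ge.trans (sup_le hDR (zpowers_le.2 (mem_sup_left (mem_sup_right (mem_zpowers w)))))
  have hgA : ∀ p ∈ Q, p * x = x * p → g * p * g⁻¹ ∈ R := fun p hp hpx => hW' (mem_inf.2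
    ⟨(c.gQ F s).le (conj_mem_cj.2 hp), F.ext.mem_cent s.z_mem s.z_ne (by
      rw [← s.gx]
      calc g * p * g⁻¹ * (g * x * g⁻¹) = g * (p * x) * g⁻¹ := by group
        _ = g * (x * p) * g⁻¹ := by rw [hpx]
        _ = g * x * g⁻¹ * (g * p * g⁻¹) := by group)⟩)
  have hgw : g * w * g⁻¹ ∈ R := hW (mem_inf.2 ⟨(c.gQ' F s).le (conj_mem_cj.2 (mem_inf.1 c.wp).1),
    mem_centralizer_singleton_iff.2 (by
      rw [← s.gz]
      calc g * w * g⁻¹ * (g * z * g⁻¹) = g * (w * z) * g⁻¹ := by group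
        _ = g * (z * w) * g⁻¹ := by rw [mem_centralizer_iff.1 (c.w_C F) z s.z_mem]
        _ = g * z * g⁻¹ * (g * w * g⁻¹) := by group)⟩)
  have hle : cj g E ≤ R := by
    refine map_le_iff_le_comap.2 (sup_le (sup_le (sup_le (fun p hp => ?_) (zpowers_le.2 ?_)) (zpowers_le.2 ?_))
      (zpowers_le.2 hgw))
    · exact hgA p (F.ext.Z_le hp) (F.ext.comm_Z c.pt.memQ hp)
    · exact hgA a (c.a_Q F) (c.E_comm F a haE x hx)
    · exact hgA b (c.b_Q F) (c.E_comm F b (mem_sup_left (mem_sup_right (mem_zpowers b))) x hx)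
  have hEc := c.card_E F
  rw [← hE] at hEc
  have hgc : Nat.card ↥(cj g E) = 81 := by rw [card_cj, hEc]
  refine Subgroup.eq_of_le_of_card_ge (fun p hp => ?_) (by rw [hgc, hEc])
  by_contra hpE
  have hgcomm : ∀ i ∈ cj g E, i * p = p * i := fun i hi => by
    have e := c.E_comm F _ (mem_cj.1 hi) _ (mem_cj.1 hp)
    calc i * p = g * ((g⁻¹ * i * g) * (g⁻¹ * p * g)) * g⁻¹ := by group
      _ = g * ((g⁻¹ * p * g) * (g⁻¹ * i * g)) * g⁻¹ := by rw [e]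
      _ = p * i := by group
  obtain ⟨e, he, n, rfl⟩ := mem_sup_zpowers (c.Q_norm_E F hdQ) (hle hp)
  have hd3 := F.base.cube d hdQ
  have hI : E ⊓ cj g E ≤ Z ⊔ zpowers x := fun i hi => by
    obtain ⟨hiE, hig⟩ := mem_inf.1 hi
    have h1 : Commute i (d ^ n) := by
      have h2 : Commute i (e * d ^ n) := hgcomm i hig
      simpa using (show Commute i e from c.E_comm F i hiE e he).inv_right.mul_right h2
    refine c.cent_d F hd hda hiE ?_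
    rw [zpow_mod_three hd3 n] at h1
    rcases (by omega : n % 3 = 0 ∨ n % 3 = 1 ∨ n % 3 = 2) with k | k | k <;> rw [k] at h1
    · exact absurd (by rw [zpow_mod_three hd3 n, k, zpow_zero, mul_one]; exact he) hpE
    · simpa using h1.eq
    · have h3 := (h1.zpow_right 2).eq
      rwa [← zpow_mul, zpow_mod_three hd3, show (2 : ℤ) * 2 % 3 = 1 from rfl, zpow_one] at h3
  have h1 := Subgroup.card_le_of_le hI
  rw [c.pt.card_span F] at h1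
  have h2 := card_sup_mul_inf (A := E) (B := cj g E) (hle.trans (sup_le le_normalizer hRN))
  have h3 := Subgroup.card_le_of_le (sup_le le_sup_left hle : E ⊔ cj g E ≤ R)
  have hdE : d ∉ E := fun e' => hda (c.E_comm F d e' a haE)
  rw [hR, card_step (c.Q_norm_E F hdQ) hd3 hdE, hEc] at h3
  rw [hEc, hgc] at h2
  nlinarith

theorem gA : ∀ p ∈ Z ⊔ zpowers a ⊔ zpowers b, g * p * g⁻¹ ∈ Z ⊔ zpowers x ⊔ zpowers w := fun p hp => by
  rw [← c.E_inf_Q' F]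
  exact mem_inf.2 ⟨(c.gE F s).le (conj_mem_cj.2 (mem_sup_left hp)), (c.gQ F s).le (conj_mem_cj.2 (c.A_le F hp))⟩

theorem gB_inv : ∀ p ∈ Z ⊔ zpowers a ⊔ zpowers b, g⁻¹ * p * g ∈ Z ⊔ zpowers x ⊔ zpowers w := fun p hp => by
  rw [← c.E_inf_Q' F]
  exact mem_inf.2 ⟨mem_cj.1 ((c.gE F s).ge (mem_sup_left hp)), mem_cj.1 ((c.gQ' F s).ge (c.A_le F hp))⟩

theorem gA_inv : g⁻¹ * w * g ∈ Z ⊔ zpowers a ⊔ zpowers b := by
  rw [← c.E_inf_Q F]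
  exact mem_inf.2 ⟨mem_cj.1 ((c.gE F s).ge (mem_sup_right (mem_zpowers w))),
    mem_cj.1 ((c.gQ F s).ge (mem_inf.1 c.wp).1)⟩

theorem gZ' {p : G} (hp : p ∈ cj g0 Z) : g * p * g⁻¹ ∈ Z := by
  rw [← c.pt.zp F] at hp
  obtain ⟨i, rfl⟩ := mem_zpowers_iff.1 hp
  rw [← conj_zpow, s.gx]
  exact zpow_mem s.z_mem i

theorem gZ {p : G} (hp : p ∈ Z) : g * p * g⁻¹ ∈ cj g0 Z := by
  rw [← F.ext.zpowers_eq s.z_mem s.z_ne] at hp
  obtain ⟨i, rfl⟩ := mem_zpowers_iff.1 hp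
  rw [← conj_zpow, s.gz]
  exact zpow_mem c.pt.mem i

theorem r_Z {p : G} (hp : p ∈ Z) : g * (t1 * t2) * g⁻¹ * p * (g * (t1 * t2) * g⁻¹)⁻¹ = p⁻¹ := by
  rw [← F.ext.zpowers_eq s.z_mem s.z_ne] at hp
  obtain ⟨i, rfl⟩ := mem_zpowers_iff.1 hp
  rw [← conj_zpow, ← inv_zpow]
  congr 1
  calc g * (t1 * t2) * g⁻¹ * z * (g * (t1 * t2) * g⁻¹)⁻¹
      = g * (t1 * t2 * (g⁻¹ * z * g) * (t1 * t2)⁻¹) * g⁻¹ := by group
    _ = g * (t1 * t2 * x * (t1 * t2)⁻¹) * g⁻¹ := by rw [← s.gx]; group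
    _ = z⁻¹ := by rw [c.t0_x F, ← s.gx]; group

theorem r_x : g * (t1 * t2) * g⁻¹ * x * (g * (t1 * t2) * g⁻¹)⁻¹ = x := by
  calc g * (t1 * t2) * g⁻¹ * x * (g * (t1 * t2) * g⁻¹)⁻¹
      = g * (t1 * t2 * (g⁻¹ * x * g) * (t1 * t2)⁻¹) * g⁻¹ := by group
    _ = g * (t1 * t2 * z * (t1 * t2)⁻¹) * g⁻¹ := by rw [← s.gz]; group
    _ = x := by rw [F.ext.conj_Z (c.t0_C F) s.z_mem, s.gz]

theorem k2_fix {p ζ : G} (h2 : t1 * t2 * (g * (t1 * t2) * g⁻¹) * (t1 * t2 * (g * (t1 * t2) * g⁻¹)) * p *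
    (t1 * t2 * (g * (t1 * t2) * g⁻¹) * (t1 * t2 * (g * (t1 * t2) * g⁻¹)))⁻¹ = p * ζ)
    (hζ : t1 * t2 * (g * (t1 * t2) * g⁻¹) * ζ * (t1 * t2 * (g * (t1 * t2) * g⁻¹))⁻¹ = ζ⁻¹) (h3 : ζ ^ 3 = 1) :
    ζ = 1 := by
  obtain ⟨e, he⟩ := s.pow
  set k := t1 * t2 * (g * (t1 * t2) * g⁻¹) with hk
  have hζ2 : k * k * ζ * (k * k)⁻¹ = ζ := by
    calc k * k * ζ * (k * k)⁻¹ = k * (k * ζ * k⁻¹) * k⁻¹ := by group
      _ = k * ζ⁻¹ * k⁻¹ := by rw [hζ]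
      _ = (k * ζ * k⁻¹)⁻¹ := by group
      _ = ζ := by rw [hζ, inv_inv]
  have e1 := UThreeLocal.pow_conj_fixed (l := k * k) (u := p) (v := ζ) h2 hζ2 (2 ^ e)
  rw [show (k * k) ^ 2 ^ e = 1 by rw [(Commute.refl k).mul_pow, he, one_mul], one_mul, inv_one, mul_one,
    left_eq_mul] at e1
  have := pow_gcd_eq_one.2 ⟨e1, h3⟩
  rwa [show Nat.gcd (2 ^ e) 3 = 1 from Nat.Coprime.pow_left e (by norm_num), pow_one] at this

theorem r_a : g * (t1 * t2) * g⁻¹ * a * (g * (t1 * t2) * g⁻¹)⁻¹ = a := by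
  set t := t1 * t2 with ht
  set r := g * t * g⁻¹ with hr
  have hβ := c.gB_inv F s a (mem_sup_left (mem_sup_right (mem_zpowers a)))
  set β := g⁻¹ * a * g with hβd
  have hex : t * β * t⁻¹ * β⁻¹ ∈ cj g0 Z := by
    obtain ⟨p, hp, n, e⟩ := mem_sup_zpowers (normalizes_of_comm fun q hq =>
      c.E_comm F q ((mem_inf.1 (c.B_le F (mem_sup_left hq))).1) w (mem_sup_right (mem_zpowers w))) hβ
    obtain ⟨z1, hz1, i, rfl⟩ := mem_sup_zpowers (normalizes_of_comm fun q hq => F.ext.comm_Z c.pt.memQ hq) hp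
    have e1 : t * (z1 * x ^ i * w ^ n) * t⁻¹ = z1 * (x⁻¹) ^ i * w ^ n := by
      calc t * (z1 * x ^ i * w ^ n) * t⁻¹ = (t * z1 * t⁻¹) * (t * x ^ i * t⁻¹) * (t * w ^ n * t⁻¹) := by group
        _ = _ := by rw [F.ext.conj_Z (c.t0_C F) hz1, ← conj_zpow, ← conj_zpow, c.t0_x F, c.t0_w F]
    rw [e, e1, show z1 * (x⁻¹) ^ i * w ^ n * (z1 * x ^ i * w ^ n)⁻¹ = z1 * ((x⁻¹) ^ i * (x ^ i)⁻¹) * z1⁻¹ by group]
    have hm : (x⁻¹) ^ i * (x ^ i)⁻¹ ∈ cj g0 Z := mul_mem (zpow_mem (inv_mem c.pt.mem) i) (inv_mem (zpow_mem c.pt.mem i))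
    have hz1x : z1 ∈ centralizer ((cj g0 Z : Subgroup G) : Set G) := c.pt.mem_cent' F (F.ext.comm_Z c.pt.memQ hz1)
    rw [(c.pt.ext' F).conj_Z hz1x hm]
    exact hm
  set ζ := a⁻¹ * (r * a * r⁻¹) with hζd
  have hζ : ζ ∈ Z := by
    have h1 := c.gZ' F s hex
    rw [show g * (t * β * t⁻¹ * β⁻¹) * g⁻¹ = r * a * r⁻¹ * a⁻¹ by rw [hr, hβd]; group] at h1
    have h2 := F.ext.conj_Z (inv_mem (F.ext.Q_le (c.a_Q F))) h1
    rw [show a⁻¹ * (r * a * r⁻¹ * a⁻¹) * a⁻¹⁻¹ = ζ by rw [hζd]; group] at h2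
    exact h2 ▸ h1
  have ra : r * a * r⁻¹ = a * ζ := by rw [hζd]; group
  suffices h : ζ = 1 by rw [ra, h, mul_one]
  have kζ : ∀ q ∈ Z, t * r * q * (t * r)⁻¹ = q⁻¹ := fun q hq => by
    calc t * r * q * (t * r)⁻¹ = t * (r * q * r⁻¹) * t⁻¹ := by group
      _ = q⁻¹ := by rw [c.r_Z F s hq, F.ext.conj_Z (c.t0_C F) (inv_mem hq)]
  have ka : t * r * a * (t * r)⁻¹ = a⁻¹ * ζ := by
    calc t * r * a * (t * r)⁻¹ = t * (r * a * r⁻¹) * t⁻¹ := by group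
      _ = (t * a * t⁻¹) * (t * ζ * t⁻¹) := by rw [ra]; group
      _ = a⁻¹ * ζ := by rw [c.t0_a F, F.ext.conj_Z (c.t0_C F) hζ]
  refine c.k2_fix F s (p := a) ?_ (kζ ζ hζ) (F.ext.Z_cube hζ)
  calc t * r * (t * r) * a * (t * r * (t * r))⁻¹ = t * r * (t * r * a * (t * r)⁻¹) * (t * r)⁻¹ := by group
    _ = t * r * (a⁻¹ * ζ) * (t * r)⁻¹ := by rw [ka]
    _ = (t * r * a * (t * r)⁻¹)⁻¹ * (t * r * ζ * (t * r)⁻¹) := by group
    _ = ζ⁻¹ * a * ζ⁻¹ := by rw [ka, kζ ζ hζ]; group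
    _ = a * ζ⁻¹ * ζ⁻¹ := by rw [F.ext.comm_Z (c.a_Q F) (inv_mem hζ)]
    _ = a * ζ := by
      rw [mul_assoc, show ζ⁻¹ * ζ⁻¹ = (ζ ^ 3)⁻¹ * ζ by group, F.ext.Z_cube hζ, inv_one, one_mul]

theorem r_w : g * (t1 * t2) * g⁻¹ * w * (g * (t1 * t2) * g⁻¹)⁻¹ = w⁻¹ := by
  set t := t1 * t2 with ht
  set r := g * t * g⁻¹ with hr
  have hα := c.gA_inv F s
  set α := g⁻¹ * w * g with hαd
  have hex : t * α * t⁻¹ * α ∈ Z := by
    obtain ⟨p, hp, n, e⟩ := mem_sup_zpowers (F.Q_le_norm (sup_le F.ext.Z_le (zpowers_le.2 (c.a_Q F))) le_sup_left (c.b_Q F)) hα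
    obtain ⟨z1, hz1, i, rfl⟩ := mem_sup_zpowers (normalizes_of_comm fun q hq => F.ext.comm_Z (c.a_Q F) hq) hp
    have e1 : t * (z1 * a ^ i * b ^ n) * t⁻¹ = z1 * (a⁻¹) ^ i * (b⁻¹) ^ n := by
      calc t * (z1 * a ^ i * b ^ n) * t⁻¹ = (t * z1 * t⁻¹) * (t * a ^ i * t⁻¹) * (t * b ^ n * t⁻¹) := by group
        _ = _ := by rw [F.ext.conj_Z (c.t0_C F) hz1, ← conj_zpow, ← conj_zpow, c.t0_a F, c.t0_b F]
    have hab : (a⁻¹) ^ i * (b⁻¹) ^ n = (a ^ i * b ^ n)⁻¹ := by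
      rw [inv_zpow, inv_zpow, ← mul_inv_rev, ((show Commute a b from c.ab F).zpow_zpow i n).eq]
    rw [e, e1, mul_assoc z1 _ ((b⁻¹) ^ n), hab, mul_assoc z1 (a ^ i), mul_assoc z1,
      F.ext.comm_Z (mul_mem (zpow_mem (c.a_Q F) i) (zpow_mem (c.b_Q F) n)) hz1, inv_mul_cancel_left]
    exact mul_mem hz1 hz1
  set η := w * (r * w * r⁻¹) with hηd
  have hη : η ∈ cj g0 Z := by
    have h1 := c.gZ F s hex
    rw [show g * (t * α * t⁻¹ * α) * g⁻¹ = r * w * r⁻¹ * w by rw [hr, hαd]; group] at h1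
    have h2 := (c.pt.ext' F).conj_Z (c.pt.mem_cent' F (c.w_x F)) h1
    rw [show w * (r * w * r⁻¹ * w) * w⁻¹ = η by rw [hηd]; group] at h2
    exact h2 ▸ h1
  have rw' : r * w * r⁻¹ = w⁻¹ * η := by rw [hηd]; group
  suffices h : η = 1 by rw [rw', h, mul_one]
  have tη : ∀ q ∈ cj g0 Z, t * r * q * (t * r)⁻¹ = q⁻¹ ∧ t * q * t⁻¹ = q⁻¹ := fun q hq => by
    rw [← c.pt.zp F] at hq
    obtain ⟨i, rfl⟩ := mem_zpowers_iff.1 hq
    rw [← conj_zpow, ← conj_zpow, ← inv_zpow]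
    refine ⟨?_, by rw [c.t0_x F]⟩
    congr 1
    calc t * r * x * (t * r)⁻¹ = t * (r * x * r⁻¹) * t⁻¹ := by group
      _ = x⁻¹ := by rw [c.r_x F s, c.t0_x F]
  have hwi : t * w⁻¹ * t⁻¹ = w⁻¹ := by
    rw [show t * w⁻¹ * t⁻¹ = (t * w * t⁻¹)⁻¹ by group, c.t0_w F]
  have kw : t * r * w * (t * r)⁻¹ = w⁻¹ * η⁻¹ := by
    calc t * r * w * (t * r)⁻¹ = t * (r * w * r⁻¹) * t⁻¹ := by group
      _ = (t * w⁻¹ * t⁻¹) * (t * η * t⁻¹) := by rw [rw']; group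
      _ = w⁻¹ * η⁻¹ := by rw [hwi, (tη η hη).2]
  refine inv_eq_one.1 (c.k2_fix F s (p := w) (ζ := η⁻¹) ?_ (tη _ (inv_mem hη)).1
    (by rw [inv_pow, (c.pt.ext' F).Z_cube hη, inv_one]))
  calc t * r * (t * r) * w * (t * r * (t * r))⁻¹ = t * r * (t * r * w * (t * r)⁻¹) * (t * r)⁻¹ := by group
    _ = t * r * (w⁻¹ * η⁻¹) * (t * r)⁻¹ := by rw [kw]
    _ = (t * r * w * (t * r)⁻¹)⁻¹ * (t * r * η * (t * r)⁻¹)⁻¹ := by group
    _ = η * w * η := by rw [kw, (tη η hη).1]; group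
    _ = w * η * η := by rw [(c.pt.ext' F).comm_Z (mem_inf.1 c.wp).1 hη]
    _ = w * η⁻¹ := by
      rw [mul_assoc, show η * η = η ^ 3 * η⁻¹ by rw [pow_succ, pow_two, mul_inv_cancel_right],
        (c.pt.ext' F).Z_cube hη, one_mul]

/-- The image of `a` lies in `Z⟨w⟩`. -/
theorem ga_mem : g * a * g⁻¹ ∈ Z ⊔ zpowers w := by
  have hy := c.gA F s a (mem_sup_left (mem_sup_right (mem_zpowers a)))
  set y := g * a * g⁻¹ with hyd
  set t := t1 * t2 with ht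
  set r := g * t * g⁻¹ with hr
  have hry : r * y * r⁻¹ = y⁻¹ := by
    calc r * y * r⁻¹ = g * (t * a * t⁻¹) * g⁻¹ := by rw [hr, hyd]; group
      _ = y⁻¹ := by rw [c.t0_a F, hyd]; group
  have hEB : ∀ q ∈ Z ⊔ zpowers x ⊔ zpowers w, q ∈ Z ⊔ zpowers a ⊔ zpowers b ⊔ zpowers w := fun q hq =>
    (mem_inf.1 (c.B_le F hq)).1
  obtain ⟨p, hp, n, e⟩ := mem_sup_zpowers (normalizes_of_comm fun q hq =>
    c.E_comm F q (hEB q (mem_sup_left hq)) w (mem_sup_right (mem_zpowers w))) hy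
  obtain ⟨z1, hz1, i, rfl⟩ := mem_sup_zpowers (normalizes_of_comm fun q hq => F.ext.comm_Z c.pt.memQ hq) hp
  have e1 : r * (z1 * x ^ i * w ^ n) * r⁻¹ = z1⁻¹ * x ^ i * (w⁻¹) ^ n := by
    calc r * (z1 * x ^ i * w ^ n) * r⁻¹ = (r * z1 * r⁻¹) * (r * x ^ i * r⁻¹) * (r * w ^ n * r⁻¹) := by group
      _ = _ := by rw [c.r_Z F s hz1, ← conj_zpow, ← conj_zpow, c.r_x F s, c.r_w F s]
  rw [e, e1] at hry
  have hc1 : Commute z1 (x ^ i) := (show Commute z1 x from F.ext.comm_Z c.pt.memQ hz1).zpow_right i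
  have hc2 : Commute z1 (w ^ n) := (show Commute z1 w from mem_centralizer_iff.1 (c.w_C F) z1 hz1).zpow_right n
  have hc3 : Commute (x ^ i) (w ^ n) := (show Commute x w from (c.w_x F).symm).zpow_zpow i n
  have hxi : x ^ i = (x ^ i)⁻¹ := by
    rw [inv_zpow, mul_inv_rev, mul_inv_rev, ← mul_assoc] at hry
    have h1 : z1⁻¹ * x ^ i * (w ^ n)⁻¹ = z1⁻¹ * (x ^ i)⁻¹ * (w ^ n)⁻¹ := by
      rw [hry]
      calc (w ^ n)⁻¹ * (x ^ i)⁻¹ * z1⁻¹ = (z1 * x ^ i * w ^ n)⁻¹ := by group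
        _ = (w ^ n * x ^ i * z1)⁻¹ := by
          rw [mul_assoc z1, hc3.eq, (hc2.mul_right hc1).eq]
        _ = z1⁻¹ * (x ^ i)⁻¹ * (w ^ n)⁻¹ := by group
    exact mul_left_cancel (mul_right_cancel h1)
  rw [e, eq_one_of_inv_eq (F.base.cube _ (zpow_mem c.pt.memQ i)) hxi, mul_one]
  exact mul_mem (mem_sup_left hz1) (mem_sup_right (zpow_mem (mem_zpowers w) n))

theorem gb : g * b * g⁻¹ = (g * a * g⁻¹)⁻¹ * z := by
  rw [← s.gx, c.dg.eq]; group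

/-- The swap is of order two on `E`. -/
theorem gga : g * (g * a * g⁻¹) * g⁻¹ = a := by
  set y := g * a * g⁻¹ with hyd
  set t := t1 * t2 with ht
  set r := g * t * g⁻¹ with hr
  have hym := c.ga_mem F s
  rw [← hyd] at hym
  -- `r` fixes the image
  have hrgy : r * (g * y * g⁻¹) * r⁻¹ = g * y * g⁻¹ := by
    have hty : t * y * t⁻¹ = y := by
      obtain ⟨z1, hz1, n, e⟩ := mem_sup_zpowers (normalizes_of_comm fun q hq =>
        mem_centralizer_iff.1 (c.w_C F) q hq) hym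
      rw [e, show t * (z1 * w ^ n) * t⁻¹ = (t * z1 * t⁻¹) * (t * w ^ n * t⁻¹) by group, ← conj_zpow,
        F.ext.conj_Z (c.t0_C F) hz1, c.t0_w F]
    calc r * (g * y * g⁻¹) * r⁻¹ = g * (t * y * t⁻¹) * g⁻¹ := by rw [hr]; group
      _ = _ := by rw [hty]
  have hfix : ∀ {p ζ : G}, r * p * r⁻¹ = p → ζ ∈ Z → g * y * g⁻¹ = p * ζ → g * y * g⁻¹ = p := by
    intro p ζ hp hζ e
    rw [e] at hrgy
    have h1 : r * (p * ζ) * r⁻¹ = p * ζ⁻¹ := by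
      rw [show r * (p * ζ) * r⁻¹ = (r * p * r⁻¹) * (r * ζ * r⁻¹) by group, hp, c.r_Z F s hζ]
    rw [h1] at hrgy
    rw [e, eq_one_of_inv_eq (F.ext.Z_cube hζ) (mul_left_cancel hrgy).symm, mul_one]
  have hkC : g * g ∈ centralizer (Z : Set G) := F.ext.mem_cent s.z_mem s.z_ne (by
    rw [← mul_inv_eq_iff_eq_mul, show g * g * z * (g * g)⁻¹ = g * (g * z * g⁻¹) * g⁻¹ by group, s.gz, s.gx])
  set k := g * g with hk
  have hgy : g * y * g⁻¹ = k * a * k⁻¹ := by rw [hk, hyd]; group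
  have hkx : (k * a * k⁻¹) * (k * b * k⁻¹) = a * b := by
    rw [← c.dg.eq]
    calc (k * a * k⁻¹) * (k * b * k⁻¹) = g * (g * (a * b) * g⁻¹) * g⁻¹ := by rw [hk]; group
      _ = x := by rw [← c.dg.eq, s.gx, s.gz]
  rcases F.perm hkC with ⟨h1, h2⟩ | ⟨h1, h2⟩
  · have hA := (h1 a).1 c.dg.ha
    have hB := (h2 b).1 c.dg.hb
    have hζ : a⁻¹ * (k * a * k⁻¹) ∈ Z := F.inf_eq.le (mem_inf.2 ⟨mul_mem (inv_mem c.dg.ha) hA, by
      rw [show k * a * k⁻¹ = a * b * (k * b * k⁻¹)⁻¹ by rw [← hkx, mul_inv_cancel_right], mul_assoc, inv_mul_cancel_left]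
      exact mul_mem c.dg.hb (inv_mem hB)⟩)
    exact hfix (c.r_a F s) hζ (by rw [hgy, mul_inv_cancel_left])
  exfalso
  have hA := (h1 a).1 c.dg.ha
  have hB := (h2 b).1 c.dg.hb
  have hswap : k * b * k⁻¹ * (k * a * k⁻¹) = a * b := by rw [F.base.Q_comm _ hB _ hA]; exact hkx
  have hζ0 : b⁻¹ * (k * a * k⁻¹) ∈ Z := F.inf_eq.le (mem_inf.2 ⟨by
    have e : b⁻¹ * (k * a * k⁻¹) = (k * b * k⁻¹)⁻¹ * a := by
      have h3 : k * a * k⁻¹ = (k * b * k⁻¹)⁻¹ * (b * a) := by rw [← c.ab F, ← hswap, inv_mul_cancel_left]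
      rw [h3, ← mul_assoc, ← mul_assoc, ← F.base.Q_comm _ (inv_mem hB) _ (inv_mem c.dg.hb)]
      group
    rw [e]; exact mul_mem (inv_mem hB) c.dg.ha, mul_mem (inv_mem c.dg.hb) hA⟩)
  have rb : r * b * r⁻¹ = b := by
    have : b = a⁻¹ * x := by rw [c.dg.eq, inv_mul_cancel_left]
    rw [this, show r * (a⁻¹ * x) * r⁻¹ = (r * a * r⁻¹)⁻¹ * (r * x * r⁻¹) by group, c.r_a F s, c.r_x F s]
  have hgyb : g * y * g⁻¹ = b := hfix rb hζ0 (by rw [hgy, mul_inv_cancel_left])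
  -- the action of an element of `D`
  obtain ⟨d, hd, hda⟩ := c.exists_d' F
  obtain ⟨hdQ, hdQ'⟩ := mem_inf.1 hd
  set ζ := a⁻¹ * (d * a * d⁻¹) with hζd
  have hζ : ζ ∈ Z := F.triv_Q hdQ F.base.le1 a c.dg.ha
  have hζ1 : ζ ≠ 1 := fun e => hda (mul_inv_eq_iff_eq_mul.1 (inv_mul_eq_one.1 e).symm)
  have hyQ' : y ∈ cj g0 Q := (mem_inf.1 (c.B_le F (c.gA F s a (mem_sup_left (mem_sup_right (mem_zpowers a)))))).2
  set η := y⁻¹ * (d * y * d⁻¹) with hηd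
  have hη : η ∈ cj g0 Z := by
    rw [hηd, show y⁻¹ * (d * y * d⁻¹) = ⁅y⁻¹, d⁆ by rw [commutatorElement_def]; group]
    exact (c.pt.ext' F).comm_mem (inv_mem hyQ') hdQ'
  have db : d * b * d⁻¹ = b * ζ⁻¹ := by
    have hdx : d * x * d⁻¹ = x := by rw [c.pt.D_comm F d hd x (c.pt.x_mem_D F), mul_inv_cancel_right]
    calc d * b * d⁻¹ = (d * a * d⁻¹)⁻¹ * (d * x * d⁻¹) := by rw [c.dg.eq]; group
      _ = ζ⁻¹ * b := by rw [hdx, hζd, c.dg.eq]; group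
      _ = b * ζ⁻¹ := F.ext.comm_Z (c.b_Q F) (inv_mem hζ)
  have hgd := c.gD F s d hd
  rw [c.D_eq F hd hda] at hgd
  obtain ⟨e, he, p, hp⟩ := mem_sup_zpowers (F.Q_le_norm (sup_le F.ext.Z_le (zpowers_le.2 c.pt.memQ)) le_sup_left hdQ) hgd
  have heE : e ∈ Z ⊔ zpowers a ⊔ zpowers b ⊔ zpowers w := (mem_inf.1 (c.B_le F (mem_sup_left he))).1
  have hyE : y ∈ Z ⊔ zpowers a ⊔ zpowers b ⊔ zpowers w := (mem_inf.1 (c.B_le F (c.gA F s a (mem_sup_left (mem_sup_right (mem_zpowers a)))))).1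
  have conjp : ∀ {q ξ : G}, d * q * d⁻¹ = q * ξ → d * ξ * d⁻¹ = ξ → ∀ n : ℤ, d ^ n * q * (d ^ n)⁻¹ = q * ξ ^ n := by
    intro q ξ hq hξ n
    have hd3 := F.base.cube d hdQ
    have hξ3 : ∀ m : ℕ, d ^ m * q * (d ^ m)⁻¹ = q * ξ ^ m := fun m => UThreeLocal.pow_conj_fixed hq hξ m
    have hcube : ξ ^ 3 = 1 := by
      have := hξ3 3
      rwa [hd3, one_mul, inv_one, mul_one, left_eq_mul] at this
    rw [zpow_mod_three hd3 n, zpow_mod_three hcube n]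
    obtain ⟨m, hm⟩ : ∃ m : ℕ, n % 3 = m := ⟨(n % 3).toNat, by omega⟩
    rw [hm, zpow_natCast, zpow_natCast]
    exact hξ3 m
  have hgdp : ∀ {q v ξ : G}, g * q * g⁻¹ = v → v ∈ Z ⊔ zpowers a ⊔ zpowers b ⊔ zpowers w →
      e * ξ = ξ * e → d * v * d⁻¹ = v * ξ → d * ξ * d⁻¹ = ξ → g * (d * q * d⁻¹) * g⁻¹ = v * ξ ^ p := by
    intro q v ξ hq hv heξ hdv hdξ
    calc g * (d * q * d⁻¹) * g⁻¹ = (g * d * g⁻¹) * (g * q * g⁻¹) * (g * d * g⁻¹)⁻¹ := by group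
      _ = e * (d ^ p * v * (d ^ p)⁻¹) * e⁻¹ := by rw [hp, hq]; group
      _ = v * ξ ^ p := by
        rw [conjp hdv hdξ p, ← mul_assoc, c.E_comm F e heE v hv, mul_assoc v,
          ((show Commute e ξ from heξ).zpow_right p).eq, ← mul_assoc, mul_inv_cancel_right]
  have hex : e * x = x * e := c.E_comm F e heE x (mem_inf.1 (c.B_le F (mem_sup_left (mem_sup_right (mem_zpowers x))))).1
  have g1 : g * ζ * g⁻¹ = η ^ p := by
    have h3 := hgdp (q := a) (v := y) hyd.symm hyE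
      ((mem_centralizer_iff.1 (c.pt.mem_cent' F hex) η hη).symm) (by rw [hηd]; group)
      ((c.pt.ext' F).conj_Z ((c.pt.ext' F).Q_le hdQ') hη)
    rw [show d * a * d⁻¹ = a * ζ by rw [hζd]; group,
      show g * (a * ζ) * g⁻¹ = y * (g * ζ * g⁻¹) by rw [hyd]; group] at h3
    exact mul_left_cancel h3
  have g2 : g * η * g⁻¹ = (ζ⁻¹) ^ p := by
    have h3 := hgdp (q := y) (v := b) hgyb (mem_sup_left (mem_sup_right (mem_zpowers b)))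
      (F.ext.comm_Z (sup_le F.ext.Z_le (zpowers_le.2 c.pt.memQ) he) (inv_mem hζ)).symm db
      (F.ext.conj_Z (F.ext.Q_le hdQ) (inv_mem hζ))
    rw [show d * y * d⁻¹ = y * η by rw [hηd]; group,
      show g * (y * η) * g⁻¹ = (g * y * g⁻¹) * (g * η * g⁻¹) by group, hgyb] at h3
    exact mul_left_cancel h3
  have h5 : ζ = ((ζ⁻¹) ^ p) ^ p := by
    conv_lhs => rw [← F.ext.conj_Z hkC hζ]
    rw [hk, show g * g * ζ * (g * g)⁻¹ = g * (g * ζ * g⁻¹) * g⁻¹ by group, g1, ← conj_zpow, g2]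
  have h6 : ζ ^ (1 + p * p) = 1 := by
    rw [zpow_one_add]
    nth_rw 1 [h5]
    rw [inv_zpow, inv_zpow, ← zpow_mul, inv_mul_cancel]
  rw [zpow_mod_three (F.ext.Z_cube hζ)] at h6
  have hpp : (1 + p * p) % 3 = 1 ∨ (1 + p * p) % 3 = 2 := by
    rw [Int.add_emod, Int.mul_emod]
    rcases (by omega : p % 3 = 0 ∨ p % 3 = 1 ∨ p % 3 = 2) with k | k | k <;> rw [k] <;> norm_num
  rcases hpp with k | k <;> rw [k] at h6
  · exact hζ1 (by simpa using h6)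
  · refine hζ1 ?_
    rw [show ζ = (ζ ^ (2 : ℤ))⁻¹ * ζ ^ 3 by group, h6, F.ext.Z_cube hζ, inv_one, one_mul]

theorem ggb : g * ((g * a * g⁻¹)⁻¹ * z) * g⁻¹ = b := by
  rw [show g * ((g * a * g⁻¹)⁻¹ * z) * g⁻¹ = (g * (g * a * g⁻¹) * g⁻¹)⁻¹ * (g * z * g⁻¹) by
    simp only [← MulAut.conj_apply, map_mul, map_inv], c.gga F s, s.gz, c.dg.eq, inv_mul_cancel_left]

theorem y_not : g * a * g⁻¹ ∉ Q := by
  intro hq
  obtain ⟨z1, hz1, n, e⟩ := mem_sup_zpowers (normalizes_of_comm fun q hq =>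
    mem_centralizer_iff.1 (c.w_C F) q hq) (c.ga_mem F s)
  rw [e] at hq
  rw [zpow_eq_one_of_mem (c.w_cube F) c.w_not ((Subgroup.mul_mem_cancel_left Q (F.ext.Z_le hz1)).1 hq), mul_one] at e
  refine c.dg.haZ (c.dg.D_Q1 F c.pt ?_ c.dg.ha)
  rw [← c.gga F s, e]
  exact mem_inf.2 ⟨(c.gQ' F s).le (conj_mem_cj.2 (c.pt.Z_le' F hz1)), (c.pt.ext' F).Z_le (c.gZ F s hz1)⟩

theorem y_Wp : g * a * g⁻¹ ∈ Wp Z Q g0 :=
  (sup_le (le_inf (c.pt.Z_le' F) (F.ext.Z_le.trans F.ext.Q_le)) (zpowers_le.2 c.wp) :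
    Z ⊔ zpowers w ≤ Wp Z Q g0) (c.ga_mem F s)

theorem E_eq : Z ⊔ zpowers a ⊔ zpowers b ⊔ zpowers (g * a * g⁻¹) = Z ⊔ zpowers a ⊔ zpowers b ⊔ zpowers w := by
  have hy : g * a * g⁻¹ ∈ Z ⊔ zpowers a ⊔ zpowers b ⊔ zpowers w :=
    (sup_le (le_sup_left.trans (le_sup_left.trans le_sup_left)) le_sup_right :
      Z ⊔ zpowers w ≤ Z ⊔ zpowers a ⊔ zpowers b ⊔ zpowers w) (c.ga_mem F s)
  refine Subgroup.eq_of_le_of_card_ge (sup_le le_sup_left (zpowers_le.2 hy)) ?_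
  rw [card_step (normalizes_of_comm fun q hq => c.E_comm F q (mem_sup_left hq) _ hy) (c.E_exp F _ hy)
    (fun e => c.y_not F s (c.A_le F e)), c.card_A F, c.card_E F]

end Cfg

end Cfsg.Agent.FFourLocal
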